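import Cfsg.Agent.H12.TwoAn.Plane
import Mathlib.GroupTheory.Transfer

/-!
The structure of `C(z, x b)`: `A` times a 2-group `Q` (of order 2 or 8), extended by `t`.
-/

set_option autoImplicit false
set_option linter.unusedSectionVars false
set_option linter.style.haveILetI false

open Subgroup H33.TwoAn

namespace H12.TwoAn

universe u

variable {G : Type u} [Group G] [Finite G] (K : Cfg G)

/-- `C(z) ∩ C(x b)`. -/
abbrev gH : Subgroup G := centralizer ({K.z} : Set G) ⊓ centralizer ({gd K} : Set G)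

/-- The 2-part of `C(z, d)` in front of `A`. -/
structure HK (w : ℕ) (Q : Subgroup G) : Prop where
  hw : w = 2 ∨ w = 4
  card_H : Nat.card (gH K) = 27 * w ^ 2
  card_Q : 2 * Nat.card Q = w ^ 2
  z_mem : K.z ∈ Q
  le : Q ≤ gH K
  comm_e : ∀ k ∈ Q, Commute k (ge K)
  comm_b : ∀ k ∈ Q, Commute k K.b
  norm : ∀ c ∈ gH K, ∀ k ∈ Q, c * k * c⁻¹ ∈ Q
  norm_A : ∀ k ∈ Q, (∀ a ∈ gA K, k * a * k⁻¹ ∈ gA K) → k = 1 ∨ k = K.z
  invert : Nat.card {k : G // k ∈ Q ∧ orderOf (k * K.t) = 2} = w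

theorem mem_gH {g : G} : g ∈ gH K ↔ Commute g K.z ∧ Commute g (gd K) :=
  ⟨fun h => ⟨mem_centralizer_singleton_iff.1 h.1, mem_centralizer_singleton_iff.1 h.2⟩,
    fun h => ⟨mem_centralizer_singleton_iff.2 h.1.eq, mem_centralizer_singleton_iff.2 h.2.eq⟩⟩

theorem gA_le_gH : gA K ≤ gH K := fun _ ha =>
  (mem_gH K).2 ⟨(z_comm K ha).symm, commute_gA K ha (d_mem K)⟩

theorem t_mem_gH : K.t ∈ gH K := (mem_gH K).2 ⟨K.hzt.symm, commute_t_d K⟩

theorem z_mem_gH : K.z ∈ gH K := (mem_gH K).2 ⟨Commute.refl _, z_comm K (d_mem K)⟩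

theorem card_by_le {U : Subgroup G} (hU : U ≤ closure ({K.b, K.y} : Set G)) : Nat.card U ≤ 9 := by
  let f : Subgroup.zpowers K.b × Subgroup.zpowers K.y →* G :=
    MonoidHom.noncommCoprod (Subgroup.subtype _) (Subgroup.subtype _) fun p q => by
      obtain ⟨i, hi⟩ := p.2
      obtain ⟨j, hj⟩ := q.2
      show Commute (p : G) (q : G)
      rw [← hi, ← hj]
      exact K.hby.zpow_zpow i j
  have hr : f.range = Subgroup.zpowers K.b ⊔ Subgroup.zpowers K.y := by
    simp only [f, MonoidHom.noncommCoprod_range, Subgroup.range_subtype]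
  calc Nat.card U ≤ Nat.card f.range := by
        refine Subgroup.card_le_of_le (hU.trans ?_)
        rw [hr]
        refine (closure_le _).2 ?_
        intro q hq
        simp only [Set.mem_insert_iff, Set.mem_singleton_iff] at hq
        rcases hq with rfl | rfl
        · exact mem_sup_left (Subgroup.mem_zpowers _)
        · exact mem_sup_right (Subgroup.mem_zpowers _)
    _ ≤ Nat.card (Subgroup.zpowers K.b × Subgroup.zpowers K.y) :=
        Nat.card_le_card_of_surjective f.rangeRestrict f.rangeRestrict_surjective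
    _ = orderOf K.b * orderOf K.y := by rw [Nat.card_prod, Nat.card_zpowers, Nat.card_zpowers]
    _ ≤ 3 * 3 := Nat.mul_le_mul (orderOf_le_of_pow_eq_one (by norm_num) K.hb)
        (orderOf_le_of_pow_eq_one (by norm_num) K.hy)

theorem x_not_by (hx : K.x ∈ closure ({K.b, K.y} : Set G)) : False := by
  have h9 : Nat.card (gA K) ≤ 9 := card_by_le K ((closure_le _).2 (by
    intro q hq
    simp only [Set.mem_insert_iff, Set.mem_singleton_iff] at hq
    rcases hq with rfl | rfl | rfl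
    · exact subset_closure (by simp)
    · exact hx
    · exact subset_closure (by simp)))
  have h27 : Nat.card (gA K) = 27 := K.indep
  omega

theorem e_ne_inv (hz : ge K = (ge K)⁻¹) : False := by
  have h1 : ge K = 1 := eq_one_of_inv_self
    (Odd.of_dvd_nat (n := 3) (by decide) (orderOf_dvd_of_pow_eq_one (cube K (e_mem K)))) hz.symm
  exact x_not_by K (by rw [mul_inv_eq_one.1 h1]; exact subset_closure (by simp))

theorem d_ne_one : gd K ≠ 1 := fun hd =>
  x_not_by K (by rw [eq_inv_of_mul_eq_one_left hd]; exact inv_mem (subset_closure (by simp)))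

theorem orderOf_d : orderOf (gd K) = 3 :=
  haveI : Fact (Nat.Prime 3) := ⟨Nat.prime_three⟩
  orderOf_eq_prime (cube K (d_mem K)) (d_ne_one K)

theorem t_not_comm_e : ¬ Commute K.t (ge K) := fun h =>
  e_ne_inv K (by rw [← t_e K, h.eq, mul_inv_cancel_right])

theorem eq_one_of_mem_two {w : ℕ} {Q : Subgroup G} (hK : HK K w Q) {k : G} (hk : k ∈ Q)
    (hkA : k ∈ gA K) : k = 1 := by
  have h3 : orderOf k ∣ 3 := orderOf_dvd_of_pow_eq_one (cube K hkA)
  have h8 : orderOf k ∣ 8 := by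
    refine (Subgroup.orderOf_dvd_natCard Q hk).trans ?_
    rcases hK.hw with rfl | rfl
    · exact ⟨4, by have := hK.card_Q; omega⟩
    · exact ⟨1, by have := hK.card_Q; omega⟩
  exact orderOf_eq_one_iff.1 (Nat.eq_one_of_dvd_coprimes (by norm_num) h3 h8)

/-- Every element of `C(z, d)` is `a k` or `a k t`. -/
theorem HK.split {w : ℕ} {Q : Subgroup G} (hK : HK K w Q) {c : G} (hc : c ∈ gH K) :
    ∃ a ∈ gA K, ∃ k ∈ Q, c = a * k ∨ c = a * k * K.t := by
  classical
  let f : gA K × Q × Bool → gH K := fun q =>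
    ⟨(q.1 : G) * q.2.1 * (if q.2.2 then K.t else 1),
      mul_mem (mul_mem (gA_le_gH K q.1.2) (hK.le q.2.1.2))
        (by split_ifs; exacts [t_mem_gH K, one_mem _])⟩
  have hce : ∀ (a : gA K) (k : Q), Commute ((a : G) * k) (ge K) := fun a k =>
    (commute_gA K a.2 (e_mem K)).mul_left (hK.comm_e _ k.2)
  have hne : ∀ (a a' : gA K) (k k' : Q), (a : G) * k ≠ (a' : G) * k' * K.t := by
    intro a a' k k' h
    apply t_not_comm_e K
    have h2 : K.t = ((a' : G) * k')⁻¹ * ((a : G) * k) := by rw [h, inv_mul_cancel_left]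
    rw [h2]
    exact (hce a' k').inv_left.mul_left (hce a k)
  have heq : ∀ (a a' : gA K) (k k' : Q), (a : G) * k = (a' : G) * k' → a = a' ∧ k = k' := by
    intro a a' k k' h
    have h1 : (k : G) * (k' : G)⁻¹ = (a : G)⁻¹ * a' := by
      rw [eq_inv_mul_iff_mul_eq, ← mul_assoc, h, mul_inv_cancel_right]
    have h2 := eq_one_of_mem_two K hK (mul_mem k.2 (inv_mem k'.2))
      (h1 ▸ mul_mem (inv_mem a.2) a'.2)
    rw [h2, eq_comm, inv_mul_eq_one] at h1
    exact ⟨Subtype.ext h1, Subtype.ext (mul_inv_eq_one.1 h2)⟩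
  have hf : Function.Injective f := by
    rintro ⟨a, k, i⟩ ⟨a', k', j⟩ h
    have h' : (a : G) * k * (if i then K.t else 1) = (a' : G) * k' * (if j then K.t else 1) :=
      congrArg Subtype.val h
    cases i <;> cases j <;> simp only [if_true, Bool.false_eq_true, if_false, mul_one] at h'
    · obtain ⟨rfl, rfl⟩ := heq _ _ _ _ h'; rfl
    · exact absurd h' (hne _ _ _ _)
    · exact absurd h'.symm (hne _ _ _ _)
    · obtain ⟨rfl, rfl⟩ := heq _ _ _ _ (mul_right_cancel h'); rfl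
  have hcard : Nat.card (gA K × Q × Bool) = Nat.card (gH K) := by
    rw [Nat.card_prod, Nat.card_prod, K.indep, hK.card_H,
      show Nat.card Bool = 2 by simp, ← hK.card_Q]
    ring
  obtain ⟨⟨a, k, i⟩, hq⟩ := ((Nat.bijective_iff_injective_and_card f).2 ⟨hf, hcard⟩).2 ⟨c, hc⟩
  refine ⟨a, a.2, k, k.2, ?_⟩
  have := congrArg Subtype.val hq
  cases i
  · left; simpa [f] using this.symm
  · right; simpa [f] using this.symm

theorem sq_zpowers_z {k : G} (hk : k ∈ Subgroup.zpowers K.z) : k = 1 ∨ k = K.z := by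
  obtain ⟨i, rfl⟩ := Subgroup.mem_zpowers_iff.1 hk
  rcases Int.even_or_odd i with ⟨j, rfl⟩ | ⟨j, rfl⟩
  · left; rw [zpow_add, ← (Commute.refl K.z).mul_zpow, sq_eq_one_of K.hz, one_zpow]
  · right
    rw [zpow_add, zpow_one, show (2 * j : ℤ) = j + j by ring, zpow_add,
      ← (Commute.refl K.z).mul_zpow, sq_eq_one_of K.hz, one_zpow, one_mul]

/-- Degree nine. -/
theorem hk_nine (h : Nat.card (gH K) = 108) : HK K 2 (Subgroup.zpowers K.z) := by
  refine ⟨Or.inl rfl, by rw [h]; norm_num, by rw [Nat.card_zpowers, K.hz]; rfl,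
    Subgroup.mem_zpowers _, Subgroup.zpowers_le.2 (z_mem_gH K), ?_, ?_, ?_,
    fun k hk _ => sq_zpowers_z K hk, ?_⟩
  · intro k hk; rcases sq_zpowers_z K hk with rfl | rfl
    exacts [Commute.one_left _, z_comm K (e_mem K)]
  · intro k hk; rcases sq_zpowers_z K hk with rfl | rfl
    exacts [Commute.one_left _, z_comm K (b_mem K)]
  · intro c hc k hk
    have : Commute c k := by
      rcases sq_zpowers_z K hk with rfl | rfl
      exacts [Commute.one_right _, ((mem_gH K).1 hc).1]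
    rwa [this.eq, mul_inv_cancel_right]
  · refine (Nat.card_congr (Equiv.subtypeEquivRight fun k =>
      ⟨fun h => h.1, fun hk => ⟨hk, ?_⟩⟩)).trans ((Nat.card_zpowers K.z).trans K.hz)
    rcases sq_zpowers_z K hk with rfl | rfl
    · rw [one_mul]; exact K.ht
    · rw [K.hzt.eq]
      refine orderOf_eq_prime ?_ fun h => K.htz ?_
      · rw [K.hzt.symm.mul_pow, pow_two, pow_two, sq_eq_one_of K.hz, tt K, one_mul]
      · rw [← inv_of_two K.hz]; exact eq_inv_of_mul_eq_one_left h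

/-! ### Degree ten -/

/-- `C(z) ∩ C(d) ∩ C(e)`. -/
abbrev gN : Subgroup G := gH K ⊓ centralizer ({ge K} : Set G)

theorem mem_gN {g : G} : g ∈ gN K ↔ g ∈ gH K ∧ Commute g (ge K) :=
  ⟨fun h => ⟨h.1, mem_centralizer_singleton_iff.1 h.2⟩,
    fun h => ⟨h.1, mem_centralizer_singleton_iff.2 h.2.eq⟩⟩

theorem gA_le_gN : gA K ≤ gN K := fun _ ha =>
  (mem_gN K).2 ⟨gA_le_gH K ha, commute_gA K ha (e_mem K)⟩

theorem z_mem_gN : K.z ∈ gN K := (mem_gN K).2 ⟨z_mem_gH K, z_comm K (e_mem K)⟩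

theorem commute_b_gN {g : G} (hg : g ∈ gN K) : Commute g K.b := by
  have hb2 : (ge K)⁻¹ * gd K = K.b ^ 2 := by
    rw [mul_inv_rev, inv_inv, mul_assoc, inv_mul_cancel_left, pow_two]
  have := (((mem_gN K).1 hg).2.inv_right.mul_right ((mem_gH K).1 ((mem_gN K).1 hg).1).2).pow_right 2
  rwa [hb2, ← pow_mul, show 2 * 2 = 3 + 1 by rfl, pow_succ, K.hb, one_mul] at this

/-- A `3`-element of `C(z, d)` centralises `e`. -/
theorem three_comm_e {q : G} (hq : Cfg.Ten K q) {c : G} (hc : c ∈ gH K)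
    (hj : ∃ j, orderOf c = 3 ^ j) : Commute c (ge K) := by
  haveI : Fact (Nat.Prime 3) := ⟨Nat.prime_three⟩
  set D := closure ({gd K, ge K} : Set G) with hD
  have hDA : D ≤ gA K := (closure_le _).2 (by
    intro p hp; simp only [Set.mem_insert_iff, Set.mem_singleton_iff] at hp
    rcases hp with rfl | rfl
    exacts [d_mem K, e_mem K])
  have hcn := H8.le_normalizer_of_conj_mem (A := gH K) (K := D) fun a ha r hr =>
    hq.normal_D a ((mem_gH K).1 ha).1 ((mem_gH K).1 ha).2 r hr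
  obtain ⟨j, hj⟩ := hj
  have hP : IsPGroup 3 (Subgroup.zpowers c ⊔ D : Subgroup G) :=
    (IsPGroup.of_card (n := j) (by rw [Nat.card_zpowers, hj])).to_sup_of_normal_right'
      ((isPGroup_gA K).to_le hDA) (Subgroup.zpowers_le.2 (hcn hc))
  have hle : Subgroup.zpowers c ⊔ D ≤ gH K :=
    sup_le (Subgroup.zpowers_le.2 hc) (hDA.trans (gA_le_gH K))
  obtain ⟨m, hm⟩ := IsPGroup.iff_card.1 hP
  exact (K.odd_d _ (by rw [hm]; exact Odd.pow (by decide)) fun r hr => (mem_gH K).1 (hle hr)).2.2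
    c (mem_sup_left (Subgroup.mem_zpowers c)) (ge K) (mem_sup_right (subset_closure (by simp)))

theorem fix_e {q : G} (hq : Cfg.Ten K q) {c : G} (hc : c ∈ gH K) {i : ℕ}
    (hci : c * ge K * c⁻¹ = gd K ^ i * ge K) : Commute c (ge K) := by
  obtain ⟨l, m', hm', hcm⟩ := Nat.exists_eq_pow_mul_and_not_dvd (orderOf_pos c).ne' 3 (by norm_num)
  have hiter : ∀ r : ℕ, c ^ r * ge K * (c ^ r)⁻¹ = gd K ^ (i * r) * ge K := by
    intro r
    induction r with
    | zero => simp
    | succ r ih =>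
      have hcd : Commute (c ^ r) (gd K) := (((mem_gH K).1 hc).2).pow_left r
      rw [pow_succ c, show c ^ r * c * ge K * (c ^ r * c)⁻¹ =
        c ^ r * (c * ge K * c⁻¹) * (c ^ r)⁻¹ by group, hci,
        show c ^ r * (gd K ^ i * ge K) * (c ^ r)⁻¹ =
          c ^ r * gd K ^ i * (c ^ r)⁻¹ * (c ^ r * ge K * (c ^ r)⁻¹) by group,
        (hcd.pow_right i).eq, mul_inv_cancel_right, ih, ← mul_assoc, ← pow_add,
        show i + i * r = i * (r + 1) by ring]
  have h1 := three_comm_e K hq (c := c ^ m') (pow_mem hc m') (by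
    have hd : orderOf (c ^ m') ∣ 3 ^ l := orderOf_dvd_of_pow_eq_one (by
      rw [← pow_mul, mul_comm, ← hcm, pow_orderOf_eq_one])
    obtain ⟨l', -, hl'⟩ := (Nat.dvd_prime_pow Nat.prime_three).1 hd
    exact ⟨l', hl'⟩)
  have h2 := hiter m'
  rw [h1.eq, mul_inv_cancel_right, eq_comm, mul_eq_right] at h2
  have h4 : 3 ∣ i * m' := by rw [← orderOf_d K]; exact orderOf_dvd_of_pow_eq_one h2
  have h5 : gd K ^ i = 1 := orderOf_dvd_iff_pow_eq_one.1 (by
    rw [orderOf_d K]; exact (Nat.prime_three.dvd_mul.1 h4).resolve_right hm')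
  rw [h5, one_mul] at hci
  exact mul_inv_eq_iff_eq_mul.1 hci

/-- `C(z, d)` acts on `e` by signs. -/
theorem act_e {q : G} (hq : Cfg.Ten K q) {c : G} (hc : c ∈ gH K) :
    c * ge K * c⁻¹ = ge K ∨ c * ge K * c⁻¹ = (ge K)⁻¹ := by
  set D := closure ({gd K, ge K} : Set G) with hD
  have hde := commute_gA K (d_mem K) (e_mem K)
  have hDA : D ≤ gA K := (closure_le _).2 (by
    intro p hp; simp only [Set.mem_insert_iff, Set.mem_singleton_iff] at hp
    rcases hp with rfl | rfl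
    exacts [d_mem K, e_mem K])
  have hDc : ∀ p ∈ D, ∃ i j : ℕ, p = gd K ^ i * ge K ^ j := by
    intro p hp
    induction hp using closure_induction with
    | mem v hv =>
      simp only [Set.mem_insert_iff, Set.mem_singleton_iff] at hv
      rcases hv with rfl | rfl
      · exact ⟨1, 0, by simp⟩
      · exact ⟨0, 1, by simp⟩
    | one => exact ⟨0, 0, by simp⟩
    | mul a a' _ _ h1 h2 =>
      obtain ⟨i, j, rfl⟩ := h1; obtain ⟨i', j', rfl⟩ := h2
      exact ⟨i + i', j + j', by rw [(hde.pow_pow i' j).symm.mul_mul_mul_comm, pow_add, pow_add]⟩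
    | inv a ha h1 =>
      obtain ⟨i, j, rfl⟩ := h1
      refine ⟨i + i, j + j, ?_⟩
      rw [pow_add, pow_add, ← (hde.pow_pow i j).symm.mul_mul_mul_comm]
      exact inv_eq_of_mul_eq_one_right (by rw [← pow_two, ← pow_succ', cube K (hDA ha)])
  obtain ⟨i, j, hij⟩ := hDc _ (hq.normal_D c ((mem_gH K).1 hc).1 ((mem_gH K).1 hc).2 _
    (subset_closure (by simp : ge K ∈ ({gd K, ge K} : Set G))))
  have hj : j % 3 = 0 ∨ j % 3 = 1 ∨ j % 3 = 2 := by omega
  rw [pow_eq_pow_mod j (cube K (e_mem K))] at hij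
  have hcd : Commute c (gd K) := ((mem_gH K).1 hc).2
  rcases hj with hj | hj | hj <;> rw [hj] at hij
  · exfalso
    rw [pow_zero, mul_one] at hij
    apply e_ne_inv K
    have he : ge K = gd K ^ i :=
      mul_left_cancel ((mul_inv_eq_iff_eq_mul.1 hij).trans (hcd.pow_right i).eq.symm)
    have hte : Commute K.t (ge K) := by rw [he]; exact (commute_t_d K).pow_right i
    calc ge K = K.t * ge K * K.t⁻¹ := by rw [hte.eq, mul_inv_cancel_right]
      _ = (ge K)⁻¹ := t_e K
  · left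
    rw [pow_one] at hij
    rw [(fix_e K hq hc hij).eq, mul_inv_cancel_right]
  · right
    have he2 : ge K ^ 2 = (ge K)⁻¹ :=
      eq_inv_of_mul_eq_one_left (by rw [← pow_succ, cube K (e_mem K)])
    rw [he2] at hij
    have hd3 : (gd K ^ i)⁻¹ = gd K ^ (2 * i) := by
      refine inv_eq_of_mul_eq_one_right ?_
      rw [← pow_add, show i + 2 * i = 3 * i by ring, pow_mul, cube K (d_mem K), one_pow]
    have hct : c * K.t * ge K * (c * K.t)⁻¹ = gd K ^ (2 * i) * ge K := by
      rw [show c * K.t * ge K * (c * K.t)⁻¹ = c * (K.t * ge K * K.t⁻¹) * c⁻¹ by group, t_e K,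
        ← conj_inv, hij, mul_inv_rev, inv_inv, hd3]
      exact ((hde.pow_left (2 * i)).eq).symm
    have h1 := fix_e K hq (c := c * K.t) (mul_mem hc (t_mem_gH K)) hct
    have h2 : c * K.t * ge K * (c * K.t)⁻¹ = ge K := by rw [h1.eq, mul_inv_cancel_right]
    rw [show c * K.t * ge K * (c * K.t)⁻¹ = c * (K.t * ge K * K.t⁻¹) * c⁻¹ by group, t_e K,
      ← conj_inv] at h2
    exact inv_eq_iff_eq_inv.1 h2

theorem card_gN {q : G} (hq : Cfg.Ten K q) (h : Nat.card (gH K) = 432) : Nat.card (gN K) = 216 := by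
  have hidx : ((gN K).subgroupOf (gH K)).index = 2 := by
    refine Subgroup.index_eq_two_iff.2 ⟨⟨K.t, t_mem_gH K⟩, fun c => ?_⟩
    rcases act_e K hq c.2 with hc | hc
    · refine Or.inr ⟨(mem_gN K).2 ⟨c.2, mul_inv_eq_iff_eq_mul.1 hc⟩, fun hct => t_not_comm_e K ?_⟩
      have h1 := ((mem_gN K).1 (Subgroup.mem_subgroupOf.1 hct)).2
      have h2 : Commute (c : G) (ge K) := mul_inv_eq_iff_eq_mul.1 hc
      have := h2.inv_left.mul_left h1
      simpa using this
    · refine Or.inl ⟨(mem_gN K).2 ⟨mul_mem c.2 (t_mem_gH K), mul_inv_eq_iff_eq_mul.1 ?_⟩, fun hcN => ?_⟩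
      · show (c : G) * K.t * ge K * ((c : G) * K.t)⁻¹ = ge K
        rw [show (c : G) * K.t * ge K * ((c : G) * K.t)⁻¹ =
          (c : G) * (K.t * ge K * K.t⁻¹) * (c : G)⁻¹ by group, t_e K, ← conj_inv, hc, inv_inv]
      · rw [(((mem_gN K).1 (Subgroup.mem_subgroupOf.1 hcN)).2).eq, mul_inv_cancel_right] at hc
        exact e_ne_inv K hc
  have h1 := Subgroup.card_mul_index ((gN K).subgroupOf (gH K))
  have h2 : Nat.card ((gN K).subgroupOf (gH K)) = Nat.card (gN K) :=
    Nat.card_congr (Subgroup.subgroupOfEquivOfLe (inf_le_left : gN K ≤ gH K)).toEquiv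
  rw [hidx, h2] at h1
  omega

theorem q_mem_gN {q : G} (hq : Cfg.Ten K q) : q ∈ gN K :=
  (mem_gN K).2 ⟨(mem_gH K).2 ⟨hq.hzq.symm, (hq.hxq.mul_left hq.hbq).symm⟩,
    (hq.hxq.mul_left hq.hbq.inv_left).symm⟩

theorem sylow_gN {q : G} (hq : Cfg.Ten K q) (h : Nat.card (gH K) = 432) :
    ∃ S : Sylow 3 (gN K), (S : Subgroup (gN K)) = (gA K).subgroupOf (gN K) := by
  haveI : Fact (Nat.Prime 3) := ⟨Nat.prime_three⟩
  set A' : Subgroup (gN K) := (gA K).subgroupOf (gN K) with hA'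
  have hA'card : Nat.card A' = 3 ^ 3 :=
    (Nat.card_congr (Subgroup.subgroupOfEquivOfLe (gA_le_gN K)).toEquiv).trans K.indep
  refine ⟨Sylow.ofCard A' ?_, rfl⟩
  rw [hA'card, card_gN K hq h, show (216 : ℕ) = 8 * 3 ^ 3 by norm_num,
    Nat.factorization_mul (by norm_num) (by norm_num), Finsupp.add_apply,
    Nat.factorization_eq_zero_of_not_dvd (show ¬ 3 ∣ 8 by norm_num),
    Nat.prime_three.factorization_pow, Finsupp.single_eq_same]

/-- The normaliser of `A` in `C(z, d, e)` is `A × ⟨z⟩`. -/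
theorem norm_gN {q : G} (hq : Cfg.Ten K q) (h : Nat.card (gH K) = 432) {g : G} (hgN : g ∈ gN K)
    (hga : ∀ a ∈ gA K, g * a * g⁻¹ ∈ gA K) : g ∈ gA K ∨ g * K.z ∈ gA K := by
  classical
  haveI : Fact (Nat.Prime 3) := ⟨Nat.prime_three⟩
  obtain ⟨S, hSA⟩ := sylow_gN K hq h
  have hN := card_gN K hq h
  have hSc : Nat.card (S : Subgroup (gN K)) = 27 := by
    rw [hSA]; exact (Nat.card_congr (Subgroup.subgroupOfEquivOfLe (gA_le_gN K)).toEquiv).trans K.indep
  have hqn : (⟨q, q_mem_gN K hq⟩ : gN K) ∉ normalizer ((S : Subgroup (gN K)) : Set (gN K)) := by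
    intro hn
    rw [hSA] at hn
    have h1 : q * K.y * q⁻¹ ∈ gA K :=
      (Subgroup.mem_normalizer_iff.1 hn ⟨K.y, gA_le_gN K (y_mem K)⟩).1 (y_mem K)
    have := cube K (pow_mem (mul_mem (inv_mem (y_mem K)) h1) 2)
    rw [hq.gen_q, pow_succ, pow_two, sq_eq_one_of K.hz, one_mul] at this
    have hz := K.hz
    rw [this, orderOf_one] at hz
    omega
  have hidx8 : (S : Subgroup (gN K)).index = 8 := by
    have := (S : Subgroup (gN K)).card_mul_index
    rw [hSc, hN] at this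
    omega
  have hn3 : Nat.card (Sylow 3 (gN K)) = 4 := by
    have hd : Nat.card (Sylow 3 (gN K)) ∣ 8 := hidx8 ▸ S.card_dvd_index
    have hm : Nat.card (Sylow 3 (gN K)) % 3 = 1 := card_sylow_modEq_one 3 (gN K)
    have hne : Nat.card (Sylow 3 (gN K)) ≠ 1 := by
      intro h1
      have h2 := S.card_eq_index_normalizer
      rw [h1, eq_comm, Subgroup.index_eq_one] at h2
      exact hqn (by
        rw [show normalizer ((S : Subgroup (gN K)) : Set (gN K)) = ⊤ from h2]
        exact Subgroup.mem_top _)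
    have hle := Nat.le_of_dvd (by norm_num) hd
    interval_cases hh : Nat.card (Sylow 3 (gN K)) <;> omega
  set M := normalizer ((S : Subgroup (gN K)) : Set (gN K)) with hMdef
  have hMc : Nat.card M = 54 := by
    have h1 := M.card_mul_index
    have h2 : Nat.card (Sylow 3 (gN K)) = M.index := S.card_eq_index_normalizer
    rw [← h2, hn3, hN] at h1
    omega
  have hmemM : ∀ {r : gN K}, (∀ a ∈ gA K, (r : G) * a * (r : G)⁻¹ ∈ gA K) → r ∈ M := by
    intro r hr
    rw [hMdef, hSA]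
    refine H8.le_normalizer_of_conj_mem (A := Subgroup.zpowers r) (fun s hs a ha => ?_)
      (Subgroup.mem_zpowers r)
    obtain ⟨i, rfl⟩ := mem_powers_iff_mem_zpowers.2 hs
    show (((r ^ i : gN K) : G)) * (a : G) * (((r ^ i : gN K) : G))⁻¹ ∈ gA K
    rw [SubmonoidClass.coe_pow]
    clear hs
    induction i with
    | zero => simpa [Subgroup.mem_subgroupOf] using ha
    | succ i ih =>
      rw [pow_succ', show (r : G) * (r : G) ^ i * (a : G) * ((r : G) * (r : G) ^ i)⁻¹ =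
        (r : G) * ((r : G) ^ i * (a : G) * ((r : G) ^ i)⁻¹) * (r : G)⁻¹ by group]
      exact hr _ ih
  let zN : gN K := ⟨K.z, z_mem_gN K⟩
  have hgM : (⟨g, hgN⟩ : gN K) ∈ M := hmemM hga
  have hzM : zN ∈ M := hmemM fun a ha => z_mem_gA K ha
  set A'' : Subgroup M := ((gA K).subgroupOf (gN K)).subgroupOf M with hA''
  have hA''c : Nat.card A'' = 27 := by
    refine (Nat.card_congr (Subgroup.subgroupOfEquivOfLe ?_).toEquiv).trans (hSA ▸ hSc)
    rw [hMdef, hSA]; exact Subgroup.le_normalizer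
  have hidx : A''.index = 2 := by
    have := A''.card_mul_index
    rw [hA''c, hMc] at this
    omega
  by_cases hgA : g ∈ gA K
  · exact Or.inl hgA
  · have hzA : K.z ∉ gA K := fun hm => by
      have h3 := cube K hm
      have hz := K.hz
      rw [pow_succ, pow_two, sq_eq_one_of K.hz, one_mul] at h3
      rw [h3, orderOf_one] at hz
      omega
    have := (Subgroup.mul_mem_iff_of_index_two hidx (a := ⟨⟨g, hgN⟩, hgM⟩) (b := ⟨zN, hzM⟩)).2
      ⟨fun hm => absurd hm hgA, fun hm => absurd hm hzA⟩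
    exact Or.inr this

/-- The 2-complement of `A` in `C(z, d, e)`. -/
theorem exists_compl {q : G} (hq : Cfg.Ten K q) (h : Nat.card (gH K) = 432) :
    ∃ Q : Subgroup G, Q ≤ gN K ∧ Nat.card Q = 8 ∧ ∀ g ∈ gN K, g ^ 8 = 1 → g ∈ Q := by
  haveI : Fact (Nat.Prime 3) := ⟨Nat.prime_three⟩
  obtain ⟨S, hSA⟩ := sylow_gN K hq h
  have hSc : Nat.card (S : Subgroup (gN K)) = 27 := by
    rw [hSA]; exact (Nat.card_congr (Subgroup.subgroupOfEquivOfLe (gA_le_gN K)).toEquiv).trans K.indep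
  have hburn : normalizer ((S : Subgroup (gN K)) : Set (gN K)) ≤
      centralizer ((S : Subgroup (gN K)) : Set (gN K)) := by
    intro g hg
    rw [hSA] at hg ⊢
    have hga : ∀ a ∈ gA K, (g : G) * a * (g : G)⁻¹ ∈ gA K := fun a ha =>
      (Subgroup.mem_normalizer_iff.1 hg ⟨a, gA_le_gN K ha⟩).1 ha
    intro a ha
    refine Subtype.ext ?_
    show (a : G) * g = g * a
    rcases norm_gN K hq h g.2 hga with h1 | h1
    · exact (commute_gA K ha h1).eq
    · have h3 := (commute_gA K ha h1).mul_right ((z_comm K ha).symm.inv_right)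
      rwa [mul_inv_cancel_right] at h3
  haveI : (Subgroup.center (gN K)).FiniteIndex := inferInstance
  have hcompl := MonoidHom.ker_transferSylow_isComplement' (P := S) hburn
  set R := (MonoidHom.transferSylow S hburn).ker with hR
  have hRc : Nat.card R = 8 := by
    have := hcompl.card_mul
    rw [hSc, card_gN K hq h] at this
    omega
  refine ⟨R.map (gN K).subtype, Subgroup.map_subtype_le _, ?_, fun g hg h8 => ?_⟩
  · rw [Subgroup.card_map_of_injective (gN K).subtype_injective, hRc]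
  · refine ⟨⟨g, hg⟩, ?_, rfl⟩
    show (⟨g, hg⟩ : gN K) ∈ R
    rw [hR, MonoidHom.mem_ker, ← orderOf_eq_one_iff]
    refine Nat.eq_one_of_dvd_coprimes (a := 8) (b := 27) (by norm_num) ?_ ?_
    · exact orderOf_dvd_of_pow_eq_one (by
        rw [← map_pow, show (⟨g, hg⟩ : gN K) ^ 8 = 1 from Subtype.ext (by simpa using h8), map_one])
    · rw [← hSc]; exact orderOf_dvd_natCard _

theorem comm_y_of {q : G} (hq : Cfg.Ten K q) (h : Nat.card (gH K) = 432) {k : G} (hk : k ∈ gN K)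
    (hky : Commute k K.y) : k ∈ gA K ∨ k * K.z ∈ gA K := by
  refine norm_gN K hq h hk fun a ha => ?_
  have hkb := commute_b_gN K hk
  have hkx : Commute k K.x := by
    have := ((mem_gH K).1 ((mem_gN K).1 hk).1).2.mul_right hkb.inv_right
    rwa [mul_inv_cancel_right] at this
  rwa [(commute_of_gen K hkb hkx hky ha).eq, mul_inv_cancel_right]

/-- The complement and its first properties. -/
structure QData (Q : Subgroup G) : Prop where
  le : Q ≤ gN K
  card : Nat.card Q = 8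
  z_mem : K.z ∈ Q
  comm_z : ∀ k ∈ Q, Commute k K.z
  pow8 : ∀ k ∈ Q, k ^ 8 = 1
  norm : ∀ c ∈ gH K, ∀ k ∈ Q, c * k * c⁻¹ ∈ Q
  notA : ∀ k ∈ Q, k ∈ gA K → k = 1
  normA : ∀ k ∈ Q, (∀ a ∈ gA K, k * a * k⁻¹ ∈ gA K) → k = 1 ∨ k = K.z
  only : ∀ k ∈ Q, k * k = 1 → k = 1 ∨ k = K.z
  comm_y : ∀ k ∈ Q, Commute k K.y → k = 1 ∨ k = K.z

theorem exists_qdata {q : G} (hq : Cfg.Ten K q) (h : Nat.card (gH K) = 432) :
    ∃ Q : Subgroup G, QData K Q := by
  obtain ⟨Q, hQN, hQc, hQmem⟩ := exists_compl K hq h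
  have hQH : Q ≤ gH K := hQN.trans inf_le_left
  have hQz : ∀ k ∈ Q, Commute k K.z := fun k hk => ((mem_gH K).1 (hQH hk)).1
  have zz := sq_eq_one_of K.hz
  have hQ8 : ∀ k ∈ Q, k ^ 8 = 1 := fun k hk => by
    rw [← hQc]; exact congrArg Subtype.val (pow_card_eq_one' (x := (⟨k, hk⟩ : Q)))
  have hzQ : K.z ∈ Q := hQmem _ (z_mem_gN K) (by
    rw [show (8 : ℕ) = 2 * 4 by rfl, pow_mul, pow_two, zz, one_pow])
  have hnormQ : ∀ c ∈ gH K, ∀ k ∈ Q, c * k * c⁻¹ ∈ Q := by
    intro c hc k hk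
    refine hQmem _ ((mem_gN K).2 ⟨mul_mem (mul_mem hc (hQH hk)) (inv_mem hc), ?_⟩) ?_
    · have := commute_conj c ((mem_gN K).1 (hQN hk)).2
      rcases act_e K hq hc with hh | hh <;> rw [hh] at this
      · exact this
      · simpa using this.inv_right
    · rw [conj_pow, hQ8 k hk, mul_one, mul_inv_cancel]
  have hQA : ∀ k ∈ Q, k ∈ gA K → k = 1 := fun k hk hkA =>
    orderOf_eq_one_iff.1 (Nat.eq_one_of_dvd_coprimes (a := 8) (b := 3) (by norm_num)
      (orderOf_dvd_of_pow_eq_one (hQ8 k hk)) (orderOf_dvd_of_pow_eq_one (cube K hkA)))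
  have hAz : ∀ k ∈ Q, k ∈ gA K ∨ k * K.z ∈ gA K → k = 1 ∨ k = K.z := by
    rintro k hk (h1 | h1)
    · exact Or.inl (hQA k hk h1)
    · right
      rw [← inv_of_two K.hz]
      exact eq_inv_of_mul_eq_one_left (hQA _ (mul_mem hk hzQ) h1)
  have hQy : ∀ k ∈ Q, Commute k K.y → k = 1 ∨ k = K.z := fun k hk hky =>
    hAz k hk (comm_y_of K hq h (hQN hk) hky)
  have honly : ∀ k ∈ Q, k * k = 1 → k = 1 ∨ k = K.z := by
    intro k hk h2
    by_cases h1 : k = 1
    · exact Or.inl h1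
    · haveI : Fact (Nat.Prime 2) := ⟨Nat.prime_two⟩
      exact Or.inr (K.iso_b k (orderOf_eq_prime (by rw [pow_two]; exact h2) h1)
        (hQz k hk) (commute_b_gN K (hQN hk)))
  exact ⟨Q, hQN, hQc, hzQ, hQz, hQ8, hnormQ, hQA,
    fun k hk hka => hAz k hk (norm_gN K hq h (hQN hk) hka), honly, hQy⟩

theorem QData.sq {Q : Subgroup G} (D : QData K Q) {k : G} (hk : k ∈ Q) : k * k = 1 ∨ k * k = K.z := by
  have hQc := D.card
  have hQ8 := D.pow8
  have honly := D.only
  have hQy := D.comm_y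
  have hnormQ := D.norm
  have hyH : K.y ∈ gH K := gA_le_gH K (y_mem K)
  refine honly _ (mul_mem hk hk) ?_
  by_contra h4
  haveI : Fact (Nat.Prime 2) := ⟨Nat.prime_two⟩
  have ho : orderOf k = 8 := by
    refine orderOf_eq_prime_pow (p := 2) (n := 2) (fun h => h4 ?_) (hQ8 k hk)
    rw [← h]; simp [pow_succ, mul_assoc]
  have hgen : Subgroup.zpowers k = Q :=
    Subgroup.eq_of_le_of_card_ge (Subgroup.zpowers_le.2 hk) (by rw [Nat.card_zpowers, ho, hQc])
  obtain ⟨m, hm⟩ : ∃ m : ℕ, k ^ m = K.y * k * K.y⁻¹ := by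
    have := hnormQ K.y hyH k hk
    rw [← hgen] at this
    exact (Submonoid.mem_powers_iff _ _).1 (mem_powers_iff_mem_zpowers.2 this)
  have hiter : ∀ r : ℕ, K.y ^ r * k * (K.y ^ r)⁻¹ = k ^ m ^ r := by
    intro r
    induction r with
    | zero => simp
    | succ r ih =>
      rw [pow_succ K.y, show K.y ^ r * K.y * k * (K.y ^ r * K.y)⁻¹ =
        K.y ^ r * (K.y * k * K.y⁻¹) * (K.y ^ r)⁻¹ by group, ← hm, ← conj_pow, ih, ← pow_mul, pow_succ]
  have h3 := hiter 3
  rw [K.hy, one_mul, inv_one, mul_one] at h3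
  nth_rw 1 [← pow_one k] at h3
  rw [pow_eq_pow_iff_modEq, ho, Nat.ModEq, Nat.pow_mod] at h3
  have hm1 : m % 8 = 1 := by
    have := Nat.mod_lt m (show 8 > 0 by norm_num)
    interval_cases hmm : m % 8 <;> simp_all
  have hcy : Commute k K.y := by
    refine (mul_inv_eq_iff_eq_mul.1 ?_).symm
    rw [← hm, ← pow_mod_orderOf, ho, hm1, pow_one]
  rcases hQy k hk hcy with rfl | rfl
  · simp at ho
  · rw [K.hz] at ho; omega

theorem QData.exists_moved {q : G} (hq : Cfg.Ten K q) (h : Nat.card (gH K) = 432) {Q : Subgroup G}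
    (D : QData K Q) : ∃ k0 ∈ Q, K.t * k0 * K.t⁻¹ = k0 * K.z := by
  have hQc := D.card
  have hQA := D.notA
  have hnormQ := D.norm
  have hQN := D.le
  have hQz := D.comm_z
  have hzQ := D.z_mem
  have zz := sq_eq_one_of K.hz
  -- uniqueness in `A Q`
  have huniq : ∀ a ∈ gA K, ∀ a' ∈ gA K, ∀ k ∈ Q, ∀ k' ∈ Q, a * k = a' * k' → k = k' := by
    intro a ha a' ha' k hk k' hk' he
    have h1 : k * k'⁻¹ = a⁻¹ * a' := by
      rw [eq_inv_mul_iff_mul_eq, ← mul_assoc, he, mul_inv_cancel_right]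
    exact mul_inv_eq_one.1 (hQA _ (mul_mem hk (inv_mem hk')) (h1 ▸ mul_mem (inv_mem ha) ha'))
  let f : gA K × Q → gN K := fun p => ⟨(p.1 : G) * p.2, mul_mem (gA_le_gN K p.1.2) (hQN p.2.2)⟩
  have hf : Function.Injective f := by
    rintro ⟨a, k⟩ ⟨a', k'⟩ he
    have he' : (a : G) * k = a' * k' := congrArg Subtype.val he
    have h1 := huniq a a.2 a' a'.2 k k.2 k' k'.2 he'
    rw [h1] at he'
    exact Prod.ext (Subtype.ext (mul_right_cancel he')) (Subtype.ext h1)
  have hc : Nat.card (gA K × Q) = Nat.card (gN K) := by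
    rw [Nat.card_prod, K.indep, hQc, card_gN K hq h]
  obtain ⟨⟨⟨a, ha⟩, ⟨k, hk⟩⟩, hp⟩ :=
    ((Nat.bijective_iff_injective_and_card f).2 ⟨hf, hc⟩).2 ⟨q, q_mem_gN K hq⟩
  have hqak : q = a * k := (congrArg Subtype.val hp).symm
  refine ⟨k, hk, ?_⟩
  have htq : K.t * q * K.t⁻¹ = K.z * q := by
    have h1 : q * K.t = K.t * K.z * q := mul_inv_eq_iff_eq_mul.1 hq.q_t
    have h2 : q = K.t * K.z * q * K.t⁻¹ := eq_mul_inv_iff_mul_eq.2 h1
    conv_rhs => rw [h2]
    rw [show K.z * (K.t * K.z * q * K.t⁻¹) = K.z * K.t * K.z * q * K.t⁻¹ by group, K.hzt.eq,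
      mul_assoc K.t K.z K.z, zz, mul_one]
  refine huniq (K.t * a * K.t⁻¹) (t_mem_gA K ha) a ha _ (hnormQ _ (t_mem_gH K) k hk) _
    (mul_mem hk hzQ) ?_
  calc K.t * a * K.t⁻¹ * (K.t * k * K.t⁻¹) = K.t * (a * k) * K.t⁻¹ := by group
    _ = K.z * (a * k) := by rw [← hqak, htq]
    _ = a * (k * K.z) := by
        rw [← mul_assoc, (z_comm K ha).eq, mul_assoc, (hQz k hk).eq]

/-- Elements of `Q` fixed or multiplied by `z` under `t`. -/
def qF (Q : Subgroup G) (hQz : ∀ k ∈ Q, Commute k K.z) : Subgroup G :=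
  { carrier := {k | k ∈ Q ∧ (K.t * k * K.t⁻¹ = k ∨ K.t * k * K.t⁻¹ = k * K.z)}
    one_mem' := ⟨one_mem _, Or.inl (by simp)⟩
    mul_mem' := by
      have zz := sq_eq_one_of K.hz
      rintro k l ⟨hk, hkt⟩ ⟨hl, hlt⟩
      refine ⟨mul_mem hk hl, ?_⟩
      rw [show K.t * (k * l) * K.t⁻¹ = K.t * k * K.t⁻¹ * (K.t * l * K.t⁻¹) by group]
      have hzl := (hQz l hl).symm.eq
      rcases hkt with e | e <;> rcases hlt with e' | e' <;> rw [e, e']
      · exact Or.inl rfl
      · exact Or.inr (by rw [mul_assoc])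
      · exact Or.inr (by rw [mul_assoc, hzl, mul_assoc])
      · exact Or.inl (by rw [mul_assoc, ← mul_assoc K.z, hzl, mul_assoc, zz, mul_one])
    inv_mem' := by
      rintro k ⟨hk, hkt⟩
      refine ⟨inv_mem hk, ?_⟩
      rw [show K.t * k⁻¹ * K.t⁻¹ = (K.t * k * K.t⁻¹)⁻¹ by group]
      rcases hkt with e | e <;> rw [e]
      · exact Or.inl rfl
      · exact Or.inr (by rw [mul_inv_rev, inv_of_two K.hz, (hQz k hk).inv_left.eq]) }

theorem mem_qF {Q : Subgroup G} {hQz : ∀ k ∈ Q, Commute k K.z} {k : G} :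
    k ∈ qF K Q hQz ↔ k ∈ Q ∧ (K.t * k * K.t⁻¹ = k ∨ K.t * k * K.t⁻¹ = k * K.z) := Iff.rfl

theorem QData.card_qF {Q : Subgroup G} (D : QData K Q) : Nat.card (qF K Q D.comm_z) ≤ 4 := by
  have hQc := D.card
  have hnormQ := D.norm
  have hQy := D.comm_y
  have hQz := D.comm_z
  have zz := sq_eq_one_of K.hz
  have hyH : K.y ∈ gH K := gA_le_gH K (y_mem K)
  have hle : (qF K Q D.comm_z) ≤ Q := fun k hk => hk.1
  have hdvd : Nat.card (qF K Q D.comm_z) ∣ 2 ^ 3 := by
    rw [show (2 : ℕ) ^ 3 = Nat.card Q by rw [hQc]; rfl]; exact Subgroup.card_dvd_of_le hle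
  obtain ⟨j, hj, hFj⟩ := (Nat.dvd_prime_pow Nat.prime_two).1 hdvd
  rcases Nat.lt_or_ge j 3 with hj3 | hj3
  · rw [hFj]
    exact Nat.pow_le_pow_right (by norm_num) (show j ≤ 2 by omega)
  · exfalso
    have hFQ : (qF K Q D.comm_z) = Q := Subgroup.eq_of_le_of_card_ge hle (by
      rw [hQc, hFj, show j = 3 by omega]; rfl)
    have hy : ∀ k ∈ Q, k = 1 ∨ k = K.z := by
      intro k hk
      refine hQy k hk ?_
      have hkt : K.t * k * K.t⁻¹ = k ∨ K.t * k * K.t⁻¹ = k * K.z := by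
        have : k ∈ (qF K Q D.comm_z) := by rw [hFQ]; exact hk
        exact this.2
      have hk't : K.t * (K.y * k * K.y⁻¹) * K.t⁻¹ = K.y * k * K.y⁻¹ ∨
          K.t * (K.y * k * K.y⁻¹) * K.t⁻¹ = K.y * k * K.y⁻¹ * K.z := by
        have : K.y * k * K.y⁻¹ ∈ (qF K Q D.comm_z) := by rw [hFQ]; exact hnormQ K.y hyH k hk
        exact this.2
      rw [show K.t * (K.y * k * K.y⁻¹) * K.t⁻¹ =
        K.t * K.y * K.t⁻¹ * (K.t * k * K.t⁻¹) * (K.t * K.y * K.t⁻¹)⁻¹ by group, K.t_y, inv_inv]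
        at hk't
      have hyz := K.hzy.eq
      have hyyi : K.y⁻¹ * K.y⁻¹ = K.y := by
        rw [← mul_inv_rev, inv_eq_iff_mul_eq_one, mul_assoc, ← pow_two, ← pow_succ', K.hy]
      have hend : ∀ δ : G, Commute δ K.y → δ * δ = 1 → Commute δ k →
          K.y⁻¹ * k * K.y = K.y * k * K.y⁻¹ * δ → Commute k K.y := by
        intro δ hδy hδ2 hδk he
        have h1 : K.y * k * K.y⁻¹ = k * δ := by
          calc K.y * k * K.y⁻¹ = (K.y⁻¹ * K.y⁻¹) * k * (K.y⁻¹ * K.y⁻¹)⁻¹ := by rw [hyyi]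
            _ = K.y⁻¹ * (K.y⁻¹ * k * K.y) * K.y := by simp only [mul_inv_rev, inv_inv, mul_assoc]
            _ = K.y⁻¹ * (K.y * k * K.y⁻¹ * δ) * K.y := by rw [he]
            _ = k * (K.y⁻¹ * δ * K.y) := by group
            _ = k * δ := by rw [mul_assoc, hδy.eq, inv_mul_cancel_left]
        have h3 : K.y ^ 3 * k * (K.y ^ 3)⁻¹ = k * δ := by
          have hd : K.y * δ * K.y⁻¹ = δ := by rw [← hδy.eq, mul_inv_cancel_right]
          calc K.y ^ 3 * k * (K.y ^ 3)⁻¹
              = K.y * (K.y * (K.y * k * K.y⁻¹) * K.y⁻¹) * K.y⁻¹ := by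
                rw [pow_succ, pow_two]; group
            _ = K.y * (K.y * (k * δ) * K.y⁻¹) * K.y⁻¹ := by rw [h1]
            _ = K.y * (K.y * k * K.y⁻¹ * (K.y * δ * K.y⁻¹)) * K.y⁻¹ := by group
            _ = K.y * (k * (δ * δ)) * K.y⁻¹ := by rw [h1, hd, mul_assoc k]
            _ = k * δ := by rw [hδ2, mul_one, h1]
        rw [K.hy, one_mul, inv_one, mul_one, left_eq_mul] at h3
        rw [h3, mul_one] at h1
        exact (mul_inv_eq_iff_eq_mul.1 h1).symm
      rcases hkt with e | e <;> rcases hk't with e' | e' <;> rw [e] at e'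
      · exact hend 1 (Commute.one_left _) (one_mul 1) (Commute.one_left _) (by rw [mul_one]; exact e')
      · exact hend K.z K.hzy zz (hQz k hk).symm e'
      · refine hend K.z K.hzy zz (hQz k hk).symm ?_
        rw [← e', show K.y⁻¹ * (k * K.z) * K.y * K.z = K.y⁻¹ * k * (K.z * K.y) * K.z by group,
          hyz, show K.y⁻¹ * k * (K.y * K.z) * K.z = K.y⁻¹ * k * K.y * (K.z * K.z) by group, zz, mul_one]
      · refine hend 1 (Commute.one_left _) (one_mul 1) (Commute.one_left _) ?_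
        rw [show K.y⁻¹ * (k * K.z) * K.y = K.y⁻¹ * k * (K.z * K.y) by group, hyz,
          show K.y⁻¹ * k * (K.y * K.z) = K.y⁻¹ * k * K.y * K.z by group] at e'
        rw [mul_one]
        exact mul_right_cancel e'
    have h2 : Nat.card Q ≤ 2 := by
      have hsub : (Q : Set G) ⊆ {1, K.z} := fun k hk => hy k hk
      calc Nat.card Q = (Q : Set G).ncard := (Nat.card_coe_set_eq _)
        _ ≤ ({1, K.z} : Set G).ncard := Set.ncard_le_ncard hsub (Set.toFinite _)
        _ ≤ 2 := (Set.ncard_insert_le _ _).trans (by simp)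
    omega

/-- Degree ten. -/
theorem hk_ten {q : G} (hq : Cfg.Ten K q) (h : Nat.card (gH K) = 432) :
    ∃ Q : Subgroup G, HK K 4 Q := by
  obtain ⟨Q, D⟩ := exists_qdata K hq h
  have hQN := D.le
  have hQc := D.card
  have hQz := D.comm_z
  have hzQ := D.z_mem
  have hQH : Q ≤ gH K := hQN.trans inf_le_left
  have hnormQ := D.norm
  have honly := D.only
  have hsq : ∀ k ∈ Q, k * k = 1 ∨ k * k = K.z := fun k hk => D.sq K hk
  have zz := sq_eq_one_of K.hz
  obtain ⟨k0, hk0, hk0t⟩ := D.exists_moved K hq h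
  set F := qF K Q D.comm_z with hFdef
  have hF4 : Nat.card F ≤ 4 := D.card_qF K
  have hk01 : k0 * K.z ≠ k0 := fun e => by
    have hz := K.hz
    rw [mul_eq_left.1 e, orderOf_one] at hz
    omega
  have hk0F : k0 ∈ F := ⟨hk0, Or.inr hk0t⟩
  have hzF : K.z ∈ F := ⟨hzQ, Or.inl (by rw [← K.hzt.eq, mul_inv_cancel_right])⟩
  have hinv0 : ∀ k ∈ Q, K.t * k * K.t⁻¹ = k * K.z → K.t * k * K.t⁻¹ = k⁻¹ := by
    intro k hk e
    rcases hsq k hk with h2 | h2
    · exfalso
      have hne : k * K.z ≠ k := fun e => by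
        have hz := K.hz
        rw [mul_eq_left.1 e, orderOf_one] at hz
        omega
      rcases honly k hk h2 with rfl | rfl
      · exact hne (e.symm.trans (by simp))
      · exact hne (e.symm.trans (by rw [← K.hzt.eq, mul_inv_cancel_right]))
    · rw [e, eq_inv_iff_mul_eq_one, mul_assoc, (hQz k hk).symm.eq, ← mul_assoc, h2, zz]
  have hinvF : ∀ k ∈ F, K.t * k * K.t⁻¹ = k⁻¹ := by
    rintro k ⟨hk, e | e⟩
    · rcases hsq k hk with h2 | h2
      · rw [e]; exact eq_inv_of_mul_eq_one_left h2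
      · exfalso
        have hkne : k ≠ k0 ∧ k ≠ k0 * K.z := by
          constructor <;> rintro rfl
          · exact hk01 (hk0t.symm.trans e)
          · refine hk01 (mul_right_cancel (b := K.z) ?_)
            calc k0 * K.z * K.z = K.t * (k0 * K.z) * K.t⁻¹ := by
                  rw [show K.t * (k0 * K.z) * K.t⁻¹ = K.t * k0 * K.t⁻¹ * (K.t * K.z * K.t⁻¹) by group,
                    hk0t, ← K.hzt.eq, mul_inv_cancel_right]
              _ = k0 * K.z := e
        have hk1 : k ≠ 1 ∧ k ≠ K.z := by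
          have hz1 : (K.z : G) ≠ 1 := fun e => by
            have hz := K.hz; rw [e, orderOf_one] at hz; omega
          constructor <;> rintro rfl
          · exact hz1 (by rw [← h2, mul_one])
          · exact hz1 (by rw [← h2, zz])
        have hk0n : k0 ≠ 1 ∧ k0 ≠ K.z := by
          constructor <;> rintro rfl
          · exact hk01 (hk0t.symm.trans (by simp))
          · exact hk01 (hk0t.symm.trans (by rw [← K.hzt.eq, mul_inv_cancel_right]))
        have hz1 : (K.z : G) ≠ 1 := fun e => by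
          have hz := K.hz; rw [e, orderOf_one] at hz; omega
        have h0z1 : k0 * K.z ≠ 1 := fun e => hk0n.2 (by
          rw [← inv_of_two K.hz]; exact eq_inv_of_mul_eq_one_left e)
        have h0zz : k0 * K.z ≠ K.z := fun e => hk0n.1 (mul_eq_right.1 e)
        have hsub : ({1, K.z, k, k0, k0 * K.z} : Set G) ⊆ (F : Set G) := by
          intro p hp
          simp only [Set.mem_insert_iff, Set.mem_singleton_iff] at hp
          rcases hp with rfl | rfl | rfl | rfl | rfl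
          exacts [one_mem F, hzF, ⟨hk, Or.inl e⟩, hk0F, mul_mem hk0F hzF]
        have h5 := Set.ncard_le_ncard hsub (Set.toFinite _)
        rw [← Nat.card_coe_set_eq (F : Set G)] at h5
        have h5' : ({1, K.z, k, k0, k0 * K.z} : Set G).ncard = 5 := by
          classical
          rw [Set.ncard_eq_toFinset_card']
          simp [hz1.symm, hk1.1.symm, hk0n.1.symm, h0z1.symm, hk1.2.symm, hk0n.2.symm, h0zz.symm,
            hkne.1, hkne.2, hk01.symm]
        have : Nat.card F = Nat.card (F : Set G) := rfl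
        omega
    · exact hinv0 k hk e
  have hFc : Nat.card F = 4 := by
    refine le_antisymm hF4 ?_
    have hk0n : k0 ≠ 1 ∧ k0 ≠ K.z := by
      constructor <;> rintro rfl
      · exact hk01 (hk0t.symm.trans (by simp))
      · exact hk01 (hk0t.symm.trans (by rw [← K.hzt.eq, mul_inv_cancel_right]))
    have hz1 : (K.z : G) ≠ 1 := fun e => by
      have hz := K.hz; rw [e, orderOf_one] at hz; omega
    have hsub : ({1, K.z, k0} : Set G) ⊆ (F : Set G) := by
      intro p hp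
      simp only [Set.mem_insert_iff, Set.mem_singleton_iff] at hp
      rcases hp with rfl | rfl | rfl
      exacts [one_mem F, hzF, hk0F]
    have h3 := Set.ncard_le_ncard hsub (Set.toFinite _)
    have h3' : ({1, K.z, k0} : Set G).ncard = 3 := by
      classical
      rw [Set.ncard_eq_toFinset_card']
      simp [hz1.symm, hk0n.1.symm, hk0n.2.symm]
    rw [← Nat.card_coe_set_eq (F : Set G)] at h3
    have hdvd : Nat.card F ∣ 8 := hQc ▸ Subgroup.card_dvd_of_le (fun k hk => hk.1 : F ≤ Q)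
    have hcard : Nat.card F = Nat.card (F : Set G) := rfl
    interval_cases hh : Nat.card F <;> omega
  refine ⟨Q, Or.inr rfl, by rw [h]; norm_num, by rw [hQc]; rfl, hzQ, hQH,
    fun k hk => ((mem_gN K).1 (hQN hk)).2, fun k hk => commute_b_gN K (hQN hk), hnormQ,
    D.normA, ?_⟩
  refine (Nat.card_congr (Equiv.subtypeEquivRight fun k => ⟨fun hk => ?_, fun hk => ⟨hk.1, ?_⟩⟩)).trans hFc
  · obtain ⟨hk, ho⟩ := hk
    have h2 : K.t * k * K.t⁻¹ = k⁻¹ := by
      refine eq_inv_of_mul_eq_one_right ?_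
      rw [inv_of_two K.ht, ← mul_assoc, ← mul_assoc, mul_assoc (k * K.t), ← pow_two, ← ho, pow_orderOf_eq_one]
    refine ⟨hk, ?_⟩
    rcases hsq k hk with e | e
    · exact Or.inl (by rw [h2]; exact inv_eq_of_mul_eq_one_right e)
    · right
      rw [h2]
      refine inv_eq_of_mul_eq_one_right ?_
      rw [← mul_assoc, e, zz]
  · haveI : Fact (Nat.Prime 2) := ⟨Nat.prime_two⟩
    refine orderOf_eq_prime ?_ fun he => t_not_comm_e K ?_
    · have := hinvF k hk
      rw [inv_of_two K.ht] at this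
      rw [pow_two, show k * K.t * (k * K.t) = k * (K.t * k * K.t) by group, this, mul_inv_cancel]
    · rw [eq_inv_of_mul_eq_one_right he]
      exact ((mem_gN K).1 (hQN hk.1)).2.inv_left

end H12.TwoAn
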