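import Cfsg.Agent.H33.TwoAn.Basic
import Cfsg.Agent.H8.Coprime
import Cfsg.Agent.H1.CoprimeAction2

/-!
Centralisers of the planes of `A` through `x b` lie in the centraliser of `z`.
-/

set_option autoImplicit false
set_option linter.unusedSectionVars false
set_option linter.style.haveILetI false

open Subgroup H33.TwoAn

namespace H12.TwoAn

universe u

variable {G : Type u} [Group G] [Finite G] (K : Cfg G)

/-- The elementary abelian group `⟨b, x, y⟩`. -/
abbrev gA : Subgroup G := closure ({K.b, K.x, K.y} : Set G)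

/-- `d = x b`. -/
abbrev gd : G := K.x * K.b

/-- `e = x b⁻¹`. -/
abbrev ge : G := K.x * K.b⁻¹

theorem b_mem : K.b ∈ gA K := subset_closure (by simp)
theorem x_mem : K.x ∈ gA K := subset_closure (by simp)
theorem y_mem : K.y ∈ gA K := subset_closure (by simp)
theorem d_mem : gd K ∈ gA K := mul_mem (x_mem K) (b_mem K)
theorem e_mem : ge K ∈ gA K := mul_mem (x_mem K) (inv_mem (b_mem K))

theorem gA_comm : IsMulCommutative (gA K) := by
  apply Subgroup.isMulCommutative_closure
  intro p hp q hq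
  simp only [Set.mem_insert_iff, Set.mem_singleton_iff] at hp hq
  rcases hp with rfl | rfl | rfl <;> rcases hq with rfl | rfl | rfl <;>
    first
      | rfl
      | exact K.hbx.eq | exact K.hbx.eq.symm | exact K.hby.eq | exact K.hby.eq.symm
      | exact K.hxy.eq | exact K.hxy.eq.symm

theorem commute_gA {a c : G} (ha : a ∈ gA K) (hc : c ∈ gA K) : Commute a c := by
  haveI := gA_comm K
  exact congrArg Subtype.val (mul_comm' (⟨a, ha⟩ : gA K) ⟨c, hc⟩)

theorem commute_of_gen {g a : G} (hb : Commute g K.b) (hx : Commute g K.x) (hy : Commute g K.y)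
    (ha : a ∈ gA K) : Commute g a := by
  induction ha using closure_induction with
  | mem c hc =>
    simp only [Set.mem_insert_iff, Set.mem_singleton_iff] at hc
    rcases hc with rfl | rfl | rfl
    · exact hb
    · exact hx
    · exact hy
  | one => exact Commute.one_right g
  | mul a c _ _ h1 h2 => exact h1.mul_right h2
  | inv a _ h => exact h.inv_right

theorem z_comm {a : G} (ha : a ∈ gA K) : Commute K.z a := commute_of_gen K K.hzb K.hzx K.hzy ha

theorem cube {a : G} (ha : a ∈ gA K) : a ^ 3 = 1 := by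
  induction ha using closure_induction with
  | mem c hc =>
    simp only [Set.mem_insert_iff, Set.mem_singleton_iff] at hc
    rcases hc with rfl | rfl | rfl
    · exact K.hb
    · exact K.hx
    · exact K.hy
  | one => exact one_pow 3
  | mul a c ha hc h1 h2 => rw [(commute_gA K ha hc).mul_pow, h1, h2, mul_one]
  | inv a _ h => rw [inv_pow, h, inv_one]

theorem isPGroup_gA : IsPGroup 3 (gA K) := by
  intro a
  exact ⟨1, Subtype.ext (by simpa using cube K a.2)⟩

theorem conj_mem_gA {g : G} (hb : g * K.b * g⁻¹ ∈ gA K) (hx : g * K.x * g⁻¹ ∈ gA K)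
    (hy : g * K.y * g⁻¹ ∈ gA K) {a : G} (ha : a ∈ gA K) : g * a * g⁻¹ ∈ gA K := by
  induction ha using closure_induction with
  | mem c hc =>
    simp only [Set.mem_insert_iff, Set.mem_singleton_iff] at hc
    rcases hc with rfl | rfl | rfl
    · exact hb
    · exact hx
    · exact hy
  | one => simp
  | mul a c _ _ h1 h2 =>
    rw [show g * (a * c) * g⁻¹ = g * a * g⁻¹ * (g * c * g⁻¹) by group]; exact mul_mem h1 h2
  | inv a _ h => rw [show g * a⁻¹ * g⁻¹ = (g * a * g⁻¹)⁻¹ by group]; exact inv_mem h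

theorem tt : K.t * K.t = 1 := sq_eq_one_of K.ht

theorem t_x : K.t * K.x * K.t⁻¹ = K.b := by
  rw [← K.t_b, inv_of_two K.ht,
    show K.t * (K.t * K.b * K.t) * K.t = (K.t * K.t) * K.b * (K.t * K.t) by group, tt K, one_mul,
    mul_one]

theorem t_d : K.t * gd K * K.t⁻¹ = gd K := by
  rw [show K.t * (K.x * K.b) * K.t⁻¹ = K.t * K.x * K.t⁻¹ * (K.t * K.b * K.t⁻¹) by group, t_x K,
    K.t_b, K.hbx.eq]

theorem commute_t_d : Commute K.t (gd K) := mul_inv_eq_iff_eq_mul.1 (t_d K)

theorem t_e : K.t * ge K * K.t⁻¹ = (ge K)⁻¹ := by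
  rw [show K.t * (K.x * K.b⁻¹) * K.t⁻¹ = K.t * K.x * K.t⁻¹ * (K.t * K.b * K.t⁻¹)⁻¹ by group,
    t_x K, K.t_b, mul_inv_rev, inv_inv]

theorem t_mem_gA {a : G} (ha : a ∈ gA K) : K.t * a * K.t⁻¹ ∈ gA K :=
  conj_mem_gA K (by rw [K.t_b]; exact x_mem K) (by rw [t_x K]; exact b_mem K)
    (by rw [K.t_y]; exact inv_mem (y_mem K)) ha

theorem z_mem_gA {a : G} (ha : a ∈ gA K) : K.z * a * K.z⁻¹ ∈ gA K := by
  rwa [(z_comm K ha).eq, mul_inv_cancel_right]

theorem h_d : K.h * gd K * K.h⁻¹ = (gd K)⁻¹ := by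
  rw [show K.h * (K.x * K.b) * K.h⁻¹ = K.h * K.x * K.h⁻¹ * (K.h * K.b * K.h⁻¹) by group, K.h_x,
    K.h_b, mul_inv_rev]

theorem h_e : K.h * ge K * K.h⁻¹ = ge K := by
  rw [show K.h * (K.x * K.b⁻¹) * K.h⁻¹ = K.h * K.x * K.h⁻¹ * (K.h * K.b * K.h⁻¹)⁻¹ by group, K.h_x,
    K.h_b, inv_inv]
  exact (K.hbx.inv_left).eq

theorem commute_conj_iff {g a : G} (w : G) :
    Commute (w * g * w⁻¹) (w * a * w⁻¹) ↔ Commute g a := by
  refine ⟨fun h => ?_, commute_conj w⟩
  have := commute_conj w⁻¹ h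
  simpa [mul_assoc] using this

/-- Centralisers transported by an element of `C(z)`. -/
theorem commute_z_of_conj {P : G → Prop} (hP : ∀ g, P g → Commute g K.z) {w g : G}
    (hw : Commute K.z w) (hg : P (w⁻¹ * g * w)) : Commute g K.z := by
  have h1 := commute_conj w (hP _ hg)
  rwa [show w * (w⁻¹ * g * w) * w⁻¹ = g by group, ← hw.eq,
    mul_inv_cancel_right] at h1

/-- `M = W ⊓ C(d)` lies in `C(z)`, so `C(d, e y) ≤ C(z)`. -/
theorem cent_df_le (hb : ∀ g : G, Commute g K.b → Commute g K.z) {g : G} (hgd : Commute g (gd K))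
    (hgf : Commute g (ge K * K.y)) : Commute g K.z := by
  classical
  have hfA : ge K * K.y ∈ gA K := mul_mem (e_mem K) (y_mem K)
  obtain ⟨W, C⟩ := exists_core K.hz (cube K hfA) (z_comm K hfA) K.iso_f
  have htf : K.t * (ge K * K.y) * K.t⁻¹ = (ge K * K.y)⁻¹ := by
    rw [show K.t * (ge K * K.y) * K.t⁻¹ = K.t * ge K * K.t⁻¹ * (K.t * K.y * K.t⁻¹) by group,
      t_e K, K.t_y, mul_inv_rev (ge K) K.y]
    exact (commute_gA K (inv_mem (e_mem K)) (inv_mem (y_mem K))).eq
  -- `M`, the part of the core centralising `d`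
  set M : Subgroup G := W ⊓ centralizer ({gd K} : Set G) with hMdef
  have hMd : ∀ r ∈ M, Commute r (gd K) := fun r hr => mem_centralizer_singleton_iff.1 hr.2
  have hMf : ∀ r ∈ M, Commute r (ge K * K.y) := fun r hr => C.comm r hr.1
  have hMn : ∀ w : G, Commute w (gd K) →
      (w * (ge K * K.y) * w⁻¹ = ge K * K.y ∨ w * (ge K * K.y) * w⁻¹ = (ge K * K.y)⁻¹) →
      ∀ r ∈ M, w * r * w⁻¹ ∈ M := by
    intro w hw hwf r hr
    refine ⟨C.norm w hwf r hr.1, mem_centralizer_singleton_iff.2 ?_⟩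
    have := commute_conj w (hMd r hr)
    rw [hw.eq, mul_inv_cancel_right] at this
    exact this.eq
  have hzd : Commute K.z (gd K) := z_comm K (d_mem K)
  have hzf : Commute K.z (ge K * K.y) := z_comm K hfA
  have hMz : ∀ r ∈ M, K.z * r * K.z⁻¹ ∈ M :=
    hMn K.z hzd (Or.inl (by rw [hzf.eq, mul_inv_cancel_right]))
  have hMt : ∀ r ∈ M, K.t * r * K.t⁻¹ ∈ M := hMn K.t (commute_t_d K) (Or.inr htf)
  obtain ⟨E, hEK, hzE, htE, hEcard⟩ : ∃ E : Subgroup G, Cfsg.IsElementaryAbelian 2 E ∧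
      K.z ∈ E ∧ K.t ∈ E ∧ ∀ a ∈ E, a = 1 ∨ a = K.z ∨ a = K.t ∨ a = K.t * K.z := by
    have zz := sq_eq_one_of K.hz
    have tt := tt K
    have c := K.hzt.eq
    let E : Subgroup G :=
      { carrier := {a | a = 1 ∨ a = K.z ∨ a = K.t ∨ a = K.t * K.z}
        one_mem' := Or.inl rfl
        mul_mem' := by
          have e1 : K.z * (K.t * K.z) = K.t := by rw [← mul_assoc, c, mul_assoc, zz, mul_one]
          have e2 : K.t * (K.t * K.z) = K.z := by rw [← mul_assoc, tt, one_mul]
          have e3 : K.t * K.z * K.z = K.t := by rw [mul_assoc, zz, mul_one]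
          have e4 : K.t * K.z * K.t = K.z := by rw [mul_assoc, c, ← mul_assoc, tt, one_mul]
          have e5 : K.t * K.z * (K.t * K.z) = 1 := by rw [← mul_assoc, e4, zz]
          intro a a' ha ha'
          simp only [Set.mem_setOf_eq] at ha ha' ⊢
          rcases ha with rfl | rfl | rfl | rfl <;> rcases ha' with rfl | rfl | rfl | rfl <;>
            simp [zz, tt, c, e1, e2, e3, e4, e5]
        inv_mem' := by
          intro a ha
          simp only [Set.mem_setOf_eq] at ha ⊢
          rcases ha with rfl | rfl | rfl | rfl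
          · simp
          · rw [inv_of_two K.hz]; simp
          · rw [inv_of_two K.ht]; simp
          · rw [mul_inv_rev, inv_of_two K.hz, inv_of_two K.ht, c]; simp }
    refine ⟨E, ⟨⟨⟨fun p q => Subtype.ext ?_⟩⟩, fun p hp => ?_⟩, Or.inr (Or.inl rfl),
      Or.inr (Or.inr (Or.inl rfl)), fun a ha => ha⟩
    · have hzt : Commute K.z (K.t * K.z) := K.hzt.mul_right (Commute.refl _)
      have htt : Commute K.t (K.t * K.z) := (Commute.refl _).mul_right K.hzt.symm
      show (p : G) * q = q * p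
      rcases p.2 with h | h | h | h <;> rcases q.2 with h' | h' | h' | h' <;> rw [h, h'] <;>
        first
          | exact (Commute.one_left _).eq | exact (Commute.one_right _).eq | rfl
          | exact K.hzt.eq | exact K.hzt.eq.symm | exact hzt.eq | exact hzt.eq.symm
          | exact htt.eq | exact htt.eq.symm
    · rcases hp with rfl | rfl | rfl | rfl
      · exact one_pow 2
      · rw [pow_two, zz]
      · rw [pow_two, tt]
      · rw [K.hzt.symm.mul_pow, pow_two, pow_two, zz, tt, one_mul]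
  have htz1 : K.t * K.z ≠ 1 := fun h => K.htz (by rw [← inv_of_two K.hz]; exact eq_inv_of_mul_eq_one_left h)
  have hE4 : 2 ^ 2 ≤ Nat.card E := by
    have hz1 : K.z ≠ 1 := fun h => by have := K.hz; rw [h, orderOf_one] at this; omega
    have ht1 : K.t ≠ 1 := fun h => by have := K.ht; rw [h, orderOf_one] at this; omega
    haveI : Fintype E := Fintype.ofFinite _
    rw [Nat.card_eq_fintype_card]
    let f : Fin 4 → E := ![1, ⟨K.z, hzE⟩, ⟨K.t, htE⟩, ⟨K.t * K.z, mul_mem htE hzE⟩]
    have hf : Function.Injective f := by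
      have n1 : K.z ≠ K.t * K.z := fun h => ht1 (mul_eq_right.1 h.symm)
      have n2 : K.t ≠ K.t * K.z := fun h => hz1 (mul_eq_left.1 h.symm)
      intro i j h
      have h' := congrArg Subtype.val h
      fin_cases i <;> fin_cases j <;>
        simp [f, hz1, ht1, htz1, n1, n2, K.htz, Ne.symm hz1, Ne.symm ht1, Ne.symm htz1, Ne.symm n1,
          Ne.symm n2, Ne.symm K.htz] at h' ⊢
    calc (2 : ℕ) ^ 2 = Fintype.card (Fin 4) := by simp
      _ ≤ Fintype.card E := Fintype.card_le_of_injective f hf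
  -- `M` is a `3`-group
  have hEnorm : ∀ a ∈ E, ∀ r ∈ M, a * r * a⁻¹ ∈ M := by
    intro a ha r hr
    rcases hEcard a ha with rfl | rfl | rfl | rfl
    · simpa using hr
    · exact hMz r hr
    · exact hMt r hr
    · rw [show K.t * K.z * r * (K.t * K.z)⁻¹ = K.t * (K.z * r * K.z⁻¹) * K.t⁻¹ by group]
      exact hMt _ (hMz r hr)
  obtain ⟨gf, hgf1, hgf2⟩ := K.fuse
  have hM3 : IsPGroup 3 M := by
    haveI : Fact (Nat.Prime 3) := ⟨Nat.prime_three⟩
    have hkey : ∀ p : ℕ, p.Prime → p ≠ 3 → ¬ p ∣ Nat.card M := by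
      intro p hp hp3 hdvd
      haveI := Fact.mk hp
      have hMp : Odd (Nat.card M) := by
        by_contra hev
        rw [Nat.not_odd_iff_even, even_iff_two_dvd] at hev
        haveI : Fact (Nat.Prime 2) := ⟨Nat.prime_two⟩
        obtain ⟨r, hr⟩ := exists_prime_orderOf_dvd_card' (G := M) 2 hev
        rw [← Subgroup.orderOf_coe] at hr
        have := C.odd _ r.2.1
        rw [hr] at this
        exact absurd this (by decide)
      have hE2 : IsPGroup 2 E := fun a => ⟨1, Subtype.ext (by simpa using hEK.2 a a.2)⟩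
      haveI : Fact (Nat.Prime 2) := ⟨Nat.prime_two⟩
      have hsol : Group.IsSolvable E := by
        haveI := hE2.isNilpotent
        infer_instance
      have hcop : (Nat.card E).Coprime (Nat.card M) := by
        obtain ⟨j, hj⟩ := IsPGroup.iff_card.1 hE2
        rw [hj]
        exact Nat.Coprime.pow_left j ((Nat.prime_two.coprime_iff_not_dvd).2 hMp.not_two_dvd_nat)
      obtain ⟨P, -, hEP⟩ := H1.exists_invariant_sylow_ge (H8.le_normalizer_of_conj_mem hEnorm) hcop
        (Or.inl hsol) p (U := ⊥) bot_le IsPGroup.of_bot (by rw [Subgroup.normalizer_eq_top ⊥]; exact le_top)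
      set P' := (P : Subgroup M).map M.subtype with hP'
      have hP'p : IsPGroup p P' := P.isPGroup'.map _
      have hP'M : P' ≤ M := Subgroup.map_subtype_le _
      have hodd' : Odd (Nat.card P') :=
        Odd.of_dvd_nat hMp (Subgroup.card_dvd_of_le hP'M)
      have hfixed : ∀ w : G, (w * gd K * w⁻¹ = gd K ∨ w * gd K * w⁻¹ = (gd K)⁻¹) →
          ∀ r ∈ P', Commute r (w * K.z * w⁻¹) → r = 1 := by
        intro w hw r hr hc
        have hr' : Commute (w⁻¹ * r * w) (gd K) := by
          rw [← commute_conj_iff w, show w * (w⁻¹ * r * w) * w⁻¹ = r by group]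
          rcases hw with h | h <;> rw [h]
          · exact hMd r (hP'M hr)
          · exact (hMd r (hP'M hr)).inv_right
        have hrz : Commute (w⁻¹ * r * w) K.z := by
          rw [← commute_conj_iff w, show w * (w⁻¹ * r * w) * w⁻¹ = r by group]; exact hc
        have hord : orderOf (w⁻¹ * r * w) = orderOf r := by
          rw [show w⁻¹ * r * w = MulAut.conj w⁻¹ r by simp, MulEquiv.orderOf_eq]
        have hod := K.odd_d (Subgroup.zpowers (w⁻¹ * r * w))
          (by rw [Nat.card_zpowers, hord]; exact C.odd r (hP'M hr).1)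
          (fun q hq => by
            obtain ⟨i, rfl⟩ := Subgroup.mem_zpowers_iff.1 hq
            exact ⟨hrz.zpow_left i, hr'.zpow_left i⟩)
        have h3 := hod.2.1 _ (Subgroup.mem_zpowers _)
        obtain ⟨j, hj⟩ := IsPGroup.iff_orderOf.1 hP'p ⟨r, hr⟩
        rw [Subgroup.orderOf_mk] at hj
        have hd3 : p ^ j ∣ 3 := by
          rw [← hj, ← hord]; exact orderOf_dvd_of_pow_eq_one h3
        rcases Nat.eq_zero_or_pos j with rfl | hj0
        · rw [pow_zero] at hj; exact orderOf_eq_one_iff.1 hj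
        · exact absurd ((Nat.prime_dvd_prime_iff_eq hp Nat.prime_three).1
            ((dvd_pow_self p hj0.ne').trans hd3)) hp3
      have hle : P' ≤ ⊥ := by
        refine H8.generation_elements (p := 2) hEK hE4 hEP hodd'.not_two_dvd_nat fun a ha ha1 => ?_
        intro r hr
        rw [Subgroup.mem_bot]
        have hc : Commute r a := Subgroup.mem_centralizer_singleton_iff.1 hr.2
        rcases hEcard a ha with rfl | rfl | rfl | rfl
        · exact absurd rfl ha1
        · exact hfixed 1 (Or.inl (by simp)) r hr.1 (by simpa using hc)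
        · exact hfixed gf (Or.inl hgf2) r hr.1 (by rw [hgf1]; exact hc)
        · refine hfixed (K.h * gf) (Or.inr ?_) r hr.1 ?_
          · rw [show K.h * gf * gd K * (K.h * gf)⁻¹ = K.h * (gf * gd K * gf⁻¹) * K.h⁻¹ by group,
              hgf2, h_d K]
          · rw [show K.h * gf * K.z * (K.h * gf)⁻¹ = K.h * (gf * K.z * gf⁻¹) * K.h⁻¹ by group,
              hgf1, K.h_t]
            exact hc
      have hP0 : (P : Subgroup M) = ⊥ :=
        (Subgroup.map_eq_bot_iff_of_injective _ M.subtype_injective).1 (le_bot_iff.1 hle)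
      have h := P.dvd_card_of_dvd_card hdvd
      rw [hP0, Subgroup.card_bot] at h
      exact hp.one_lt.ne' (Nat.dvd_one.1 h)
    refine IsPGroup.of_card (n := (Nat.card M).primeFactorsList.length) ?_
    refine Nat.eq_prime_pow_of_unique_prime_dvd Nat.card_pos.ne' fun {p} hp hd => ?_
    by_contra hne
    exact hkey p hp hne hd
  -- the 3-group `M A`
  have hAM : gA K ≤ normalizer (M : Set G) := H8.le_normalizer_of_conj_mem fun a ha r hr =>
    hMn a (commute_gA K ha (d_mem K))
      (Or.inl (by rw [(commute_gA K ha hfA).eq, mul_inv_cancel_right])) r hr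
  have hM' : IsPGroup 3 (gA K ⊔ M : Subgroup G) :=
    (isPGroup_gA K).to_sup_of_normal_right' hM3 hAM
  have hM'd : ∀ r ∈ gA K ⊔ M, Commute r (gd K) ∧ Commute r (ge K * K.y) := by
    have hle : gA K ⊔ M ≤ centralizer ({gd K} : Set G) ⊓ centralizer ({ge K * K.y} : Set G) :=
      sup_le (fun r hr => ⟨mem_centralizer_singleton_iff.2 (commute_gA K hr (d_mem K)).eq,
          mem_centralizer_singleton_iff.2 (commute_gA K hr hfA).eq⟩)
        fun r hr => ⟨hr.2, mem_centralizer_singleton_iff.2 (hMf r hr).eq⟩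
    exact fun r hr => ⟨mem_centralizer_singleton_iff.1 (hle hr).1,
      mem_centralizer_singleton_iff.1 (hle hr).2⟩
  have hM'z : ∀ r ∈ gA K ⊔ M, K.z * r * K.z⁻¹ ∈ gA K ⊔ M := by
    have hle : gA K ⊔ M ≤ (gA K ⊔ M).comap (MulAut.conj K.z).toMonoidHom :=
      sup_le (fun r hr => mem_sup_left (z_mem_gA K hr)) fun r hr => mem_sup_right (hMz r hr)
    exact fun r hr => hle hr
  have hM'odd : ∀ r ∈ gA K ⊔ M, Odd (orderOf r) := by
    intro r hr
    obtain ⟨j, hj⟩ := IsPGroup.iff_orderOf.1 hM' ⟨r, hr⟩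
    rw [Subgroup.orderOf_mk] at hj
    rw [hj]
    exact Odd.pow (by decide)
  have hinA : ∀ r ∈ gA K ⊔ M, Commute r K.z → r ∈ gA K := fun r hr hc =>
    K.cent_df r (hM'odd r hr) hc (hM'd r hr).1 (hM'd r hr).2
  have hMA : M ≤ gA K := by
    by_contra hnle
    have hlt : gA K < gA K ⊔ M :=
      lt_of_le_of_ne le_sup_left fun h => hnle (h ▸ le_sup_right)
    haveI : Fact (Nat.Prime 3) := ⟨Nat.prime_three⟩
    obtain ⟨n, hn, hnA⟩ := SetLike.exists_of_lt (H1.isPGroup_sup_lt_normalizer hM' hlt)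
    set u := K.z * n * K.z⁻¹ * n⁻¹ with hu
    have huM : u ∈ gA K ⊔ M := mul_mem (hM'z n hn.1) (inv_mem hn.1)
    have hub : Commute u K.b := by
      have hnb : n⁻¹ * K.b * n ∈ gA K :=
        (Subgroup.mem_normalizer_iff''.1 hn.2 K.b).1 (b_mem K)
      have hz' : K.z⁻¹ * K.b * K.z = K.b := by rw [mul_assoc, ← K.hzb.eq, inv_mul_cancel_left]
      refine mul_inv_eq_iff_eq_mul.1 ?_
      calc u * K.b * u⁻¹
          = K.z * n * (K.z⁻¹ * (n⁻¹ * K.b * n) * K.z) * n⁻¹ * K.z⁻¹ := by rw [hu]; group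
        _ = K.z * n * (n⁻¹ * K.b * n) * n⁻¹ * K.z⁻¹ := by
            rw [show K.z⁻¹ * (n⁻¹ * K.b * n) * K.z = n⁻¹ * K.b * n by
              rw [mul_assoc, ← (z_comm K hnb).eq, inv_mul_cancel_left]]
        _ = K.z * K.b * K.z⁻¹ := by group
        _ = K.b := by rw [K.hzb.eq, mul_inv_cancel_right]
    have hinv : K.z * u * K.z⁻¹ = u⁻¹ := by
      rw [hu, inv_of_two K.hz]
      calc K.z * (K.z * n * K.z * n⁻¹) * K.z = (K.z * K.z) * (n * K.z * n⁻¹ * K.z) := by group
        _ = n * K.z⁻¹ * n⁻¹ * K.z⁻¹ := by rw [sq_eq_one_of K.hz, one_mul, inv_of_two K.hz]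
        _ = (K.z * n * K.z * n⁻¹)⁻¹ := by group
    have h1 : u = 1 := eq_one_of_inv_comm (hM'odd u huM) hinv (hb u hub).symm
    exact hnA (hinA n hn.1
      ((mul_inv_eq_iff_eq_mul.1 (mul_inv_eq_one.1 (hu ▸ h1))).symm))
  -- conclusion
  set u := K.z * g * K.z⁻¹ * g⁻¹ with hu
  have huM : u ∈ M := by
    refine ⟨C.brk g hgf, mem_centralizer_singleton_iff.2 ?_⟩
    exact (((hzd.mul_left hgd).mul_left hzd.inv_left).mul_left hgd.inv_left).eq
  have hinv : K.z * u * K.z⁻¹ = u⁻¹ := by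
    rw [hu, inv_of_two K.hz]
    calc K.z * (K.z * g * K.z * g⁻¹) * K.z = (K.z * K.z) * (g * K.z * g⁻¹ * K.z) := by group
      _ = g * K.z⁻¹ * g⁻¹ * K.z⁻¹ := by rw [sq_eq_one_of K.hz, one_mul, inv_of_two K.hz]
      _ = (K.z * g * K.z * g⁻¹)⁻¹ := by group
  have h1 : u = 1 := eq_one_of_inv_comm (C.odd u huM.1) hinv (z_comm K (hMA huM))
  exact (mul_inv_eq_iff_eq_mul.1 (mul_inv_eq_one.1 (hu ▸ h1))).symm

theorem exists_coord {a : G} (ha : a ∈ gA K) :
    ∃ i j k : ℕ, a = gd K ^ i * ge K ^ j * K.y ^ k := by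
  have hc : ∀ i j k i' j' k' : ℕ, gd K ^ i * ge K ^ j * K.y ^ k * (gd K ^ i' * ge K ^ j' * K.y ^ k') =
      gd K ^ (i + i') * ge K ^ (j + j') * K.y ^ (k + k') := by
    intro i j k i' j' k'
    have hde := commute_gA K (d_mem K) (e_mem K)
    have hyd := commute_gA K (y_mem K) (d_mem K)
    have hye := commute_gA K (y_mem K) (e_mem K)
    rw [show gd K ^ i * ge K ^ j * K.y ^ k * (gd K ^ i' * ge K ^ j' * K.y ^ k') =
        gd K ^ i * ge K ^ j * (K.y ^ k * (gd K ^ i' * ge K ^ j')) * K.y ^ k' by group,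
      ((hyd.pow_pow k i').mul_right (hye.pow_pow k j')).eq, pow_add, pow_add, pow_add]
    have h2 := (hde.pow_pow i' j).eq
    calc gd K ^ i * ge K ^ j * (gd K ^ i' * ge K ^ j' * K.y ^ k) * K.y ^ k'
        = gd K ^ i * (ge K ^ j * gd K ^ i') * ge K ^ j' * K.y ^ k * K.y ^ k' := by group
      _ = gd K ^ i * (gd K ^ i' * ge K ^ j) * ge K ^ j' * K.y ^ k * K.y ^ k' := by rw [h2]
      _ = _ := by group
  haveI : Fact (Nat.Prime 3) := ⟨Nat.prime_three⟩
  induction ha using closure_induction with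
  | mem c hc' =>
    simp only [Set.mem_insert_iff, Set.mem_singleton_iff] at hc'
    rcases hc' with rfl | rfl | rfl
    · refine ⟨2, 1, 0, ?_⟩
      rw [pow_zero, mul_one, pow_one, (K.hbx.symm).mul_pow]
      calc K.b = K.x ^ 3 * K.b := by rw [K.hx, one_mul]
        _ = K.x ^ 2 * (K.b ^ 2 * K.b⁻¹) * K.x := by
            rw [show K.b ^ 2 * K.b⁻¹ = K.b by group, pow_succ, mul_assoc, mul_assoc, ← K.hbx.eq]
        _ = K.x ^ 2 * K.b ^ 2 * (K.x * K.b⁻¹) := by
            rw [show K.x * K.b⁻¹ = K.b⁻¹ * K.x from (K.hbx.symm.inv_right).eq]; group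
    · refine ⟨2, 2, 0, ?_⟩
      rw [pow_zero, mul_one, ← (commute_gA K (d_mem K) (e_mem K)).mul_pow,
        show gd K * ge K = K.x ^ 2 by
          rw [show K.x * K.b * (K.x * K.b⁻¹) = K.x * (K.b * K.x) * K.b⁻¹ by group, K.hbx.eq, pow_two]
          group,
        ← pow_mul, show 2 * 2 = 3 + 1 by rfl, pow_succ, K.hx, one_mul]
    · exact ⟨0, 0, 1, by simp⟩
  | one => exact ⟨0, 0, 0, by simp⟩
  | mul a c _ _ h1 h2 =>
    obtain ⟨i, j, k, rfl⟩ := h1
    obtain ⟨i', j', k', rfl⟩ := h2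
    exact ⟨_, _, _, hc i j k i' j' k'⟩
  | inv a ha h =>
    obtain ⟨i, j, k, rfl⟩ := h
    refine ⟨i + i, j + j, k + k, ?_⟩
    rw [← hc]
    refine inv_eq_of_mul_eq_one_right ?_
    rw [← pow_two, ← pow_succ', cube K ha]

/-- The planes through `d` have centralisers in `C(z)`, where `z` is isolated. -/
theorem plane (hb : ∀ g : G, Commute g K.b → Commute g K.z) {a : G} (ha : a ∈ gA K)
    (had : a ∉ Subgroup.zpowers (gd K)) :
    (∀ g : G, Commute g (gd K) → Commute g a → Commute g K.z) ∧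
      ∀ i : G, orderOf i = 2 → Commute i K.z → Commute i (gd K) → Commute i a → i = K.z := by
  have hx : ∀ g : G, Commute g K.x → Commute g K.z := fun g hg =>
    commute_z_of_conj K (P := fun g => Commute g K.b) hb K.hzs (by
      rw [← commute_conj_iff K.s, K.s_b, show K.s * (K.s⁻¹ * g * K.s) * K.s⁻¹ = g by group]
      exact hg)
  have hy : ∀ g : G, Commute g K.y → Commute g K.z := fun g hg =>
    commute_z_of_conj K (P := fun g => Commute g K.x) hx K.hzs (by
      rw [← commute_conj_iff K.s, K.s_x, show K.s * (K.s⁻¹ * g * K.s) * K.s⁻¹ = g by group]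
      exact hg)
  have hiso : ∀ c : G, ∀ w : G, Commute K.z w →
      (∀ i : G, orderOf i = 2 → Commute i K.z → Commute i c → i = K.z) →
      ∀ i : G, orderOf i = 2 → Commute i K.z → Commute i (w * c * w⁻¹) → i = K.z := by
    intro c w hw hc i hi hiz hic
    have h1 := hc (w⁻¹ * i * w) (by
      rw [show w⁻¹ * i * w = MulAut.conj w⁻¹ i by simp, MulEquiv.orderOf_eq, hi]) (by
      rw [← commute_conj_iff w, show w * (w⁻¹ * i * w) * w⁻¹ = i by group, ← hw.eq,
        mul_inv_cancel_right]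
      exact hiz) (by
      rw [← commute_conj_iff w, show w * (w⁻¹ * i * w) * w⁻¹ = i by group]
      exact hic)
    calc i = w * (w⁻¹ * i * w) * w⁻¹ := by group
      _ = K.z := by rw [h1, ← hw.eq, mul_inv_cancel_right]
  have hhf : K.h * (ge K * K.y) * K.h⁻¹ = ge K * K.y⁻¹ := by
    rw [show K.h * (ge K * K.y) * K.h⁻¹ = K.h * ge K * K.h⁻¹ * (K.h * K.y * K.h⁻¹) by group, h_e K,
      K.h_y]
  obtain ⟨i, j, k, rfl⟩ := exists_coord K ha
  -- reduce to the part without `d`
  have he3 := cube K (e_mem K)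
  have hy3 := K.hy
  have hred : ∀ g : G, Commute g (gd K) → Commute g (gd K ^ i * ge K ^ j * K.y ^ k) →
      Commute g (ge K ^ (j % 3) * K.y ^ (k % 3)) := by
    intro g hgd hga
    rw [← pow_eq_pow_mod j he3, ← pow_eq_pow_mod k hy3]
    have := (hgd.pow_right i).inv_right.mul_right hga
    rwa [mul_assoc, inv_mul_cancel_left] at this
  have hne : ¬ (j % 3 = 0 ∧ k % 3 = 0) := by
    rintro ⟨hj, hk⟩
    apply had
    rw [pow_eq_pow_mod j he3, pow_eq_pow_mod k hy3, hj, hk, pow_zero, pow_zero, mul_one, mul_one]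
    exact Subgroup.npow_mem_zpowers _ _
  have sq : ∀ (g u : G), u ^ 3 = 1 → Commute g (u ^ 2) → Commute g u := fun g u hu hc => by
    have := hc.pow_right 2
    rwa [← pow_mul, show 2 * 2 = 3 + 1 by rfl, pow_succ, hu, one_mul] at this
  have hbde : ∀ g : G, Commute g (gd K) → Commute g (ge K) → Commute g K.b := by
    intro g hgd hge
    refine sq g K.b K.hb ?_
    have := hge.inv_right.mul_right hgd
    rwa [show (ge K)⁻¹ * gd K = K.b ^ 2 by
      rw [mul_inv_rev, inv_inv, mul_assoc, inv_mul_cancel_left, pow_two]] at this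
  have hyi : ∀ i : G, orderOf i = 2 → Commute i K.z → Commute i K.y → i = K.z := by
    have h1 := hiso K.b K.s K.hzs K.iso_b
    rw [K.s_b] at h1
    have h2 := hiso K.x K.s K.hzs h1
    rwa [K.s_x] at h2
  have hf' : ∀ g : G, Commute g (gd K) → Commute g (ge K * K.y⁻¹) → Commute g K.z := by
    intro g hgd hgf
    refine commute_z_of_conj K
      (P := fun g => Commute g (gd K) ∧ Commute g (ge K * K.y))
      (fun g hg => cent_df_le K hb hg.1 hg.2) K.hzh ⟨?_, ?_⟩
    · rw [← commute_conj_iff K.h, show K.h * (K.h⁻¹ * g * K.h) * K.h⁻¹ = g by group, h_d K]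
      exact hgd.inv_right
    · rw [← commute_conj_iff K.h, show K.h * (K.h⁻¹ * g * K.h) * K.h⁻¹ = g by group, hhf]
      exact hgf
  have hfi' : ∀ i : G, orderOf i = 2 → Commute i K.z → Commute i (ge K * K.y⁻¹) → i = K.z := by
    have h1 := hiso (ge K * K.y) K.h K.hzh K.iso_f
    rwa [hhf] at h1
  have hey := commute_gA K (e_mem K) (y_mem K)
  have key : ∀ g : G, Commute g (gd K) → Commute g (ge K ^ (j % 3) * K.y ^ (k % 3)) →
      Commute g K.z ∧ (orderOf g = 2 → Commute g K.z → g = K.z) := by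
    intro g hgd hga
    have hj : j % 3 = 0 ∨ j % 3 = 1 ∨ j % 3 = 2 := by omega
    have hk : k % 3 = 0 ∨ k % 3 = 1 ∨ k % 3 = 2 := by omega
    rcases hj with hj | hj | hj <;> rcases hk with hk | hk | hk <;> rw [hj, hk] at hga <;>
      (try simp only [pow_zero, pow_one, one_mul, mul_one] at hga)
    · exact absurd ⟨hj, hk⟩ hne
    · exact ⟨hy g hga, fun ho hz => hyi g ho hz hga⟩
    · have := sq g _ hy3 hga
      exact ⟨hy g this, fun ho hz => hyi g ho hz this⟩
    · have := hbde g hgd hga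
      exact ⟨hb g this, fun ho hz => K.iso_b g ho hz this⟩
    · exact ⟨cent_df_le K hb hgd hga, fun ho hz => K.iso_f g ho hz hga⟩
    · rw [show K.y ^ 2 = K.y⁻¹ from eq_inv_of_mul_eq_one_left (by rw [← pow_succ, hy3])] at hga
      exact ⟨hf' g hgd hga, fun ho hz => hfi' g ho hz hga⟩
    · have := hbde g hgd (sq g _ he3 hga)
      exact ⟨hb g this, fun ho hz => K.iso_b g ho hz this⟩
    · have h1 : Commute g (ge K * K.y⁻¹) := by
        have := hga.inv_right
        rwa [mul_inv_rev, show (ge K ^ 2)⁻¹ = ge K from inv_eq_of_mul_eq_one_right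
          (by rw [← pow_succ, he3]), (hey.inv_right.symm).eq] at this
      exact ⟨hf' g hgd h1, fun ho hz => hfi' g ho hz h1⟩
    · have h1 : Commute g (ge K * K.y) := by
        have := sq g (ge K * K.y) (cube K (mul_mem (e_mem K) (y_mem K)))
          (by rw [hey.mul_pow]; exact hga)
        exact this
      exact ⟨cent_df_le K hb hgd h1, fun ho hz => K.iso_f g ho hz h1⟩
  exact ⟨fun g hgd hga => (key g hgd (hred g hgd hga)).1,
    fun c ho hz hcd hca => (key c hcd (hred c hcd hca)).2 ho hz⟩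

/-- An element of `C(d)` conjugating `a` in `A` outside `⟨d⟩` into `A` centralises `z`. -/
theorem control (hb : ∀ g : G, Commute g K.b → Commute g K.z) {a g : G} (ha : a ∈ gA K)
    (had : a ∉ Subgroup.zpowers (gd K)) (hgd : Commute g (gd K)) (hga : g * a * g⁻¹ ∈ gA K) :
    Commute g K.z := by
  have hgad : g * a * g⁻¹ ∉ Subgroup.zpowers (gd K) := by
    intro h
    apply had
    obtain ⟨i, hi⟩ := Subgroup.mem_zpowers_iff.1 h
    refine Subgroup.mem_zpowers_iff.2 ⟨i, ?_⟩
    calc gd K ^ i = g⁻¹ * (g * gd K ^ i) := by group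
      _ = g⁻¹ * (gd K ^ i * g) := by rw [(hgd.zpow_right i).eq]
      _ = a := by rw [hi]; group
  have hgd' : g * gd K * g⁻¹ = gd K := by rw [hgd.eq, mul_inv_cancel_right]
  obtain ⟨h1, h2⟩ := plane K hb hga hgad
  have hd' : Commute (g * K.z * g⁻¹) (gd K) := by
    have := commute_conj g (z_comm K (d_mem K)); rwa [hgd'] at this
  have ha' : Commute (g * K.z * g⁻¹) (g * a * g⁻¹) := commute_conj g (z_comm K ha)
  have := h2 (g * K.z * g⁻¹) (by
    rw [show g * K.z * g⁻¹ = MulAut.conj g K.z from rfl, MulEquiv.orderOf_eq, K.hz])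
    (h1 _ hd' ha') hd' ha'
  exact mul_inv_eq_iff_eq_mul.1 this

end H12.TwoAn
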