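import Cfsg.Agent.H12.TwoAn.HData
import Mathlib.GroupTheory.Sylow

/-!
The configuration in `C(x b)/⟨x b⟩` obtained from the configuration in the group.
-/

set_option autoImplicit false
set_option linter.unusedSectionVars false
set_option linter.style.haveILetI false

open Subgroup H33.TwoAn

namespace H12.TwoAn

universe u

variable {G : Type u} [Group G] [Finite G] (K : Cfg G)

/-- `C(x b)`. -/
abbrev cD : Subgroup G := centralizer ({gd K} : Set G)

/-- `⟨x b⟩` inside its centraliser. -/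
def dD : Subgroup (cD K) := (Subgroup.zpowers (gd K)).subgroupOf (cD K)

theorem comm_dD {δ c : G} (hδ : δ ∈ Subgroup.zpowers (gd K)) (hc : c ∈ cD K) : Commute δ c := by
  obtain ⟨i, rfl⟩ := Subgroup.mem_zpowers_iff.1 hδ
  have h : Commute c (gd K) := mem_centralizer_singleton_iff.1 hc
  exact h.symm.zpow_left i

instance dD_normal : (dD K).Normal := ⟨fun δ hδ c => by
  have h : Commute (δ : G) c := comm_dD K hδ c.2
  have he : c * δ * c⁻¹ = δ := Subtype.ext (by
    show (c : G) * δ * (c : G)⁻¹ = δ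
    rw [← h.eq, mul_inv_cancel_right])
  rwa [he]⟩

/-- `C(x b)/⟨x b⟩`. -/
abbrev QL : Type u := cD K ⧸ dD K

/-- The projection. -/
abbrev qp : cD K →* QL K := QuotientGroup.mk' (dD K)

theorem qp_eq_one {c : cD K} : qp K c = 1 ↔ (c : G) ∈ Subgroup.zpowers (gd K) :=
  QuotientGroup.eq_one_iff c

theorem qp_surj : Function.Surjective (qp K) := QuotientGroup.mk'_surjective _

theorem cube_dD {δ : G} (hδ : δ ∈ Subgroup.zpowers (gd K)) : δ ^ 3 = 1 :=
  cube K ((Subgroup.zpowers_le.2 (d_mem K)) hδ)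

theorem eq_one_two_three {δ : G} (h2 : δ ^ 2 = 1) (h3 : δ ^ 3 = 1) : δ = 1 := by
  rwa [pow_succ, h2, one_mul] at h3

theorem card_dD : Nat.card (dD K) = 3 := by
  rw [dD, Nat.card_congr (Subgroup.subgroupOfEquivOfLe (Subgroup.zpowers_le.2
    (mem_centralizer_singleton_iff.2 rfl))).toEquiv, Nat.card_zpowers, orderOf_d]

theorem card_comap (S : Subgroup (QL K)) : Nat.card (S.comap (qp K)) = 3 * Nat.card S := by
  have h1 := Subgroup.index_comap_of_surjective S (qp_surj K)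
  have h2 := (S.comap (qp K)).card_mul_index
  have h3 := S.card_mul_index
  have h4 : Nat.card (cD K) = Nat.card (QL K) * Nat.card (dD K) :=
    Subgroup.card_eq_card_quotient_mul_card_subgroup _
  have hpos : 0 < S.index := Nat.pos_of_ne_zero Subgroup.index_ne_zero_of_finite
  rw [h1, h4, ← h3, card_dD] at h2
  exact Nat.eq_of_mul_eq_mul_right hpos (h2.trans (by ring))

theorem orderOf_qp {c : cD K} (hc : orderOf (c : G) = 2) : orderOf (qp K c) = 2 := by
  haveI : Fact (Nat.Prime 2) := ⟨Nat.prime_two⟩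
  refine orderOf_eq_prime ?_ fun h => ?_
  · rw [← map_pow, ← map_one (qp K)]
    exact congrArg _ (Subtype.ext (by
      rw [SubmonoidClass.coe_pow, ← hc, pow_orderOf_eq_one]; rfl))
  · have h3 := cube_dD K ((qp_eq_one K).1 h)
    have h1 := eq_one_two_three (by rw [← hc, pow_orderOf_eq_one]) h3
    rw [h1, orderOf_one] at hc
    omega

/-- Lifts of commuting involutions commute. -/
theorem comm_lift {g i : cD K} (hi : orderOf (i : G) = 2) (h : Commute (qp K g) (qp K i)) :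
    Commute (g : G) i := by
  have hm : (g : G) * i * (g : G)⁻¹ * (i : G)⁻¹ ∈ Subgroup.zpowers (gd K) :=
    (qp_eq_one K (c := g * i * g⁻¹ * i⁻¹)).1 (by
      simp only [map_mul, map_inv]
      rw [h.eq, mul_inv_cancel_right, mul_inv_cancel])
  set δ := (g : G) * i * (g : G)⁻¹ * (i : G)⁻¹ with hδ
  have hc : Commute δ i := comm_dD K hm i.2
  have e : (g : G) * i * (g : G)⁻¹ = δ * i := by rw [hδ, inv_mul_cancel_right]
  have h2 : (δ * i) ^ 2 = 1 := by
    rw [← e, conj_pow, ← hi, pow_orderOf_eq_one, mul_one, mul_inv_cancel]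
  rw [hc.mul_pow, ← hi, pow_orderOf_eq_one, mul_one, hi] at h2
  rw [eq_one_two_three h2 (cube_dD K hm), one_mul] at e
  exact mul_inv_eq_iff_eq_mul.1 e

theorem exists_lift_invol {i : QL K} (hi : orderOf i = 2) :
    ∃ c : cD K, orderOf (c : G) = 2 ∧ qp K c = i := by
  haveI : Fact (Nat.Prime 2) := ⟨Nat.prime_two⟩
  obtain ⟨g, rfl⟩ := qp_surj K i
  have hm : ((g : G)) ^ 2 ∈ Subgroup.zpowers (gd K) := by
    have h : qp K (g ^ 2) = 1 := by rw [map_pow, ← hi, pow_orderOf_eq_one]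
    have := (qp_eq_one K).1 h
    rwa [SubmonoidClass.coe_pow] at this
  have he : qp K (g ^ 3) = qp K g := by
    rw [map_pow, pow_succ, ← hi, pow_orderOf_eq_one, one_mul]
  refine ⟨g ^ 3, ?_, he⟩
  rw [SubmonoidClass.coe_pow]
  refine orderOf_eq_prime ?_ fun h => ?_
  · rw [← pow_mul, mul_comm, pow_mul]; exact cube_dD K hm
  · have h1 : g ^ 3 = 1 := Subtype.ext (by rwa [SubmonoidClass.coe_pow])
    rw [h1, map_one] at he
    rw [← he, orderOf_one] at hi
    omega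

/-- `z` in `C(x b)`. -/
def cZ : cD K := ⟨K.z, mem_centralizer_singleton_iff.2 (z_comm K (d_mem K)).eq⟩

/-- `t` in `C(x b)`. -/
def cT : cD K := ⟨K.t, mem_centralizer_singleton_iff.2 (commute_t_d K).eq⟩

/-- `e` in `C(x b)`. -/
def cE : cD K := ⟨ge K, mem_centralizer_singleton_iff.2 (commute_gA K (e_mem K) (d_mem K)).eq⟩

@[simp] theorem cZ_coe : (cZ K : G) = K.z := rfl
@[simp] theorem cT_coe : (cT K : G) = K.t := rfl
@[simp] theorem cE_coe : (cE K : G) = ge K := rfl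

theorem mem_gH_iff {c : cD K} : (c : G) ∈ gH K ↔ Commute (qp K c) (qp K (cZ K)) := by
  refine ⟨fun h => ?_, fun h => ?_⟩
  · have : Commute c (cZ K) := Subtype.ext ((mem_gH K).1 h).1.eq
    exact this.map (qp K)
  · exact ⟨mem_centralizer_singleton_iff.2 (comm_lift K (i := cZ K) K.hz h).eq, c.2⟩

theorem card_centz {w : ℕ} {Q : Subgroup G} (hK : HK K w Q) :
    Nat.card (centralizer ({qp K (cZ K)} : Set (QL K))) = 9 * w ^ 2 := by
  have h1 := card_comap K (centralizer ({qp K (cZ K)} : Set (QL K)))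
  have h2 : (centralizer ({qp K (cZ K)} : Set (QL K))).comap (qp K) = (gH K).subgroupOf (cD K) := by
    ext c
    rw [Subgroup.mem_comap, Subgroup.mem_subgroupOf, mem_gH_iff]
    exact mem_centralizer_singleton_iff
  rw [h2, Nat.card_congr (Subgroup.subgroupOfEquivOfLe (inf_le_right : gH K ≤ cD K)).toEquiv,
    hK.card_H] at h1
  omega

/-- The image of `A`. -/
def qA : Subgroup (QL K) := ((gA K).subgroupOf (cD K)).map (qp K)

theorem gA_le_cD : gA K ≤ cD K := fun _ ha =>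
  mem_centralizer_singleton_iff.2 (commute_gA K ha (d_mem K)).eq

theorem comap_qA : (qA K).comap (qp K) = (gA K).subgroupOf (cD K) := by
  refine Subgroup.comap_map_eq_self fun c hc => ?_
  exact Subgroup.zpowers_le.2 (d_mem K) ((qp_eq_one K).1 hc)

theorem qp_mem_qA {c : cD K} : qp K c ∈ qA K ↔ (c : G) ∈ gA K := by
  rw [← Subgroup.mem_comap, comap_qA, Subgroup.mem_subgroupOf]

theorem exists_of_qA {a : QL K} (ha : a ∈ qA K) : ∃ c : cD K, (c : G) ∈ gA K ∧ qp K c = a := by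
  obtain ⟨c, hc, rfl⟩ := ha
  exact ⟨c, hc, rfl⟩

theorem card_qA : Nat.card (qA K) = 9 := by
  have h1 := card_comap K (qA K)
  rw [comap_qA, Nat.card_congr (Subgroup.subgroupOfEquivOfLe (gA_le_cD K)).toEquiv] at h1
  have h27 : Nat.card (gA K) = 27 := K.indep
  omega

theorem cube_qA {a : QL K} (ha : a ∈ qA K) : a ^ 3 = 1 := by
  obtain ⟨c, hc, rfl⟩ := exists_of_qA K ha
  rw [← map_pow, qp_eq_one, SubmonoidClass.coe_pow, cube K hc]
  exact one_mem _

theorem comm_qA {a b : QL K} (ha : a ∈ qA K) (hb : b ∈ qA K) : Commute a b := by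
  obtain ⟨c, hc, rfl⟩ := exists_of_qA K ha
  obtain ⟨c', hc', rfl⟩ := exists_of_qA K hb
  have : Commute c c' := Subtype.ext (commute_gA K hc hc').eq
  exact this.map (qp K)

theorem qA_z {a : QL K} (ha : a ∈ qA K) : Commute a (qp K (cZ K)) := by
  obtain ⟨c, hc, rfl⟩ := exists_of_qA K ha
  exact (mem_gH_iff K).1 (gA_le_gH K hc)

theorem t_inv_qA {a : QL K} (ha : a ∈ qA K) : qp K (cT K) * a * (qp K (cT K))⁻¹ = a⁻¹ := by
  obtain ⟨c, hc, rfl⟩ := exists_of_qA K ha
  rw [← mul_eq_one_iff_eq_inv, ← map_inv, ← map_mul, ← map_mul, ← map_mul, qp_eq_one]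
  show K.t * (c : G) * K.t⁻¹ * (c : G) ∈ Subgroup.zpowers (gd K)
  obtain ⟨i, j, k, he⟩ := exists_coord K hc
  rw [he]
  have hij := commute_gA K (pow_mem (d_mem K) i) (pow_mem (e_mem K) j)
  have h1 : K.t * (gd K ^ i * ge K ^ j * K.y ^ k) * K.t⁻¹ =
      gd K ^ i * ((ge K)⁻¹ ^ j * (K.y⁻¹) ^ k) := by
    rw [show K.t * (gd K ^ i * ge K ^ j * K.y ^ k) * K.t⁻¹ =
      (K.t * gd K ^ i * K.t⁻¹) * ((K.t * ge K ^ j * K.t⁻¹) * (K.t * K.y ^ k * K.t⁻¹)) by group,
      ← conj_pow, ← conj_pow, ← conj_pow, t_d K, t_e K, K.t_y]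
  rw [h1, inv_pow, inv_pow]
  have hyd := commute_gA K (pow_mem (y_mem K) k) (pow_mem (d_mem K) i)
  have hed := commute_gA K (inv_mem (pow_mem (e_mem K) j)) (pow_mem (d_mem K) i)
  have hye := commute_gA K (pow_mem (e_mem K) j) (pow_mem (y_mem K) k)
  have h2 : (ge K ^ j)⁻¹ * (K.y ^ k)⁻¹ * (gd K ^ i * ge K ^ j * K.y ^ k) = gd K ^ i := by
    calc (ge K ^ j)⁻¹ * (K.y ^ k)⁻¹ * (gd K ^ i * ge K ^ j * K.y ^ k)
        = (ge K ^ j)⁻¹ * ((K.y ^ k)⁻¹ * gd K ^ i) * (ge K ^ j * K.y ^ k) := by group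
      _ = ((ge K ^ j)⁻¹ * gd K ^ i) * ((K.y ^ k)⁻¹ * (ge K ^ j * K.y ^ k)) := by
          rw [hyd.inv_left.eq]; group
      _ = gd K ^ i * (ge K ^ j)⁻¹ * ((K.y ^ k)⁻¹ * (K.y ^ k * ge K ^ j)) := by rw [hed.eq, hye.eq]
      _ = gd K ^ i := by group
  rw [mul_assoc, h2]
  exact mul_mem (Subgroup.npow_mem_zpowers _ _) (Subgroup.npow_mem_zpowers _ _)

theorem e_not_d : ge K ∉ Subgroup.zpowers (gd K) := fun h =>
  t_not_comm_e K (comm_dD K h (cT K).2).symm

theorem qE_ne_one : qp K (cE K) ≠ 1 := fun h => e_not_d K ((qp_eq_one K).1 h)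

variable {K} {w : ℕ} {Q : Subgroup G}

theorem HK.le_cD (hK : HK K w Q) : Q ≤ cD K := hK.le.trans inf_le_right

theorem HK.eq_one (hK : HK K w Q) {k : G} (hk : k ∈ Q) (hd : k ∈ Subgroup.zpowers (gd K)) : k = 1 :=
  eq_one_of_mem_two K hK hk (Subgroup.zpowers_le.2 (d_mem K) hd)

/-- The image of `Q`. -/
def qK (Q : Subgroup G) : Subgroup (QL K) := (Q.subgroupOf (cD K)).map (qp K)

theorem HK.card_qK (hK : HK K w Q) : Nat.card (qK (K := K) Q) = Nat.card Q := by
  refine (Nat.card_eq_of_bijective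
    (fun k : Q => (⟨qp K ⟨k, hK.le_cD k.2⟩, Subgroup.mem_map_of_mem _ k.2⟩ : qK (K := K) Q))
    ⟨fun k k' h => ?_, fun a => ?_⟩).symm
  · have h1 : qp K ⟨k, hK.le_cD k.2⟩ = qp K ⟨k', hK.le_cD k'.2⟩ := congrArg Subtype.val h
    have h2 : qp K (⟨k, hK.le_cD k.2⟩ * (⟨k', hK.le_cD k'.2⟩)⁻¹) = 1 := by
      rw [map_mul, map_inv, h1, mul_inv_cancel]
    have h3 : (k : G) * (k' : G)⁻¹ ∈ Subgroup.zpowers (gd K) := (qp_eq_one K).1 h2
    exact Subtype.ext (mul_inv_eq_one.1 (hK.eq_one (mul_mem k.2 (inv_mem k'.2)) h3))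
  · obtain ⟨c, hc, hca⟩ := a.2
    exact ⟨⟨c, hc⟩, Subtype.ext hca⟩

theorem HK.t_notMem (hK : HK K w Q) {a k : G} (ha : a ∈ gA K) (hk : k ∈ Q) : K.t ≠ a * k := fun h =>
  t_not_comm_e K (h ▸ (commute_gA K ha (e_mem K)).mul_left (hK.comm_e k hk))

theorem HK.qt_notMem (hK : HK K w Q) {a k : QL K} (ha : a ∈ qA K) (hk : k ∈ qK (K := K) Q) :
    qp K (cT K) ≠ a * k := by
  obtain ⟨c, hc, rfl⟩ := exists_of_qA K ha
  obtain ⟨m, hm, rfl⟩ := hk
  intro h
  have h1 : qp K (cT K * (c * m)⁻¹) = 1 := by rw [map_mul, map_inv, map_mul, h, mul_inv_cancel]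
  have h2 : K.t * ((c : G) * m)⁻¹ ∈ Subgroup.zpowers (gd K) := (qp_eq_one K).1 h1
  refine hK.t_notMem (mul_mem (Subgroup.zpowers_le.2 (d_mem K) h2) hc) hm ?_
  rw [mul_assoc (K.t * ((c : G) * m)⁻¹)]
  exact (inv_mul_cancel_right K.t ((c : G) * m)).symm

/-- An element of `C(z)` in the quotient. -/
theorem HK.qsplit (hK : HK K w Q) {i : QL K} (hi : Commute i (qp K (cZ K))) :
    ∃ a ∈ qA K, ∃ k : G, ∃ hk : k ∈ Q,
      i = a * qp K ⟨k, hK.le_cD hk⟩ ∨ i = a * qp K ⟨k, hK.le_cD hk⟩ * qp K (cT K) := by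
  obtain ⟨c, rfl⟩ := qp_surj K i
  obtain ⟨a, ha, k, hk, he⟩ := hK.split K ((mem_gH_iff K).2 hi)
  refine ⟨qp K ⟨a, gA_le_cD K ha⟩, (qp_mem_qA K).2 ha, k, hk, ?_⟩
  rcases he with he | he
  · left; rw [← map_mul]; exact congrArg _ (Subtype.ext he)
  · right; rw [← map_mul, ← map_mul]; exact congrArg _ (Subtype.ext he)

theorem HK.invol_outer (hK : HK K w Q) {i : QL K} (hi : orderOf i = 2)
    (hiz : Commute i (qp K (cZ K))) (hne : i ≠ qp K (cZ K)) {a k : QL K} (ha : a ∈ qA K)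
    (hk : k ∈ qK (K := K) Q) : i ≠ a * k := by
  obtain ⟨c, hc2, rfl⟩ := exists_lift_invol K hi
  obtain ⟨α, hα, rfl⟩ := exists_of_qA K ha
  obtain ⟨m, hm, rfl⟩ := hk
  intro h
  have h1 : qp K (c * (α * m)⁻¹) = 1 := by rw [map_mul, map_inv, map_mul, h, mul_inv_cancel]
  have h2 : (c : G) * ((α : G) * m)⁻¹ ∈ Subgroup.zpowers (gd K) := (qp_eq_one K).1 h1
  have hcb : Commute (c : G) K.b := by
    rw [show (c : G) = (c : G) * ((α : G) * m)⁻¹ * ((α : G) * m) by rw [inv_mul_cancel_right]]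
    exact (commute_gA K (Subgroup.zpowers_le.2 (d_mem K) h2) (b_mem K)).mul_left
      ((commute_gA K hα (b_mem K)).mul_left (hK.comm_b _ hm))
  apply hne
  exact congrArg _ (Subtype.ext (K.iso_b c hc2 ((mem_gH K).1 ((mem_gH_iff K).2 hiz)).1 hcb))

theorem sq_of_orderOf {i : QL K} (hi : orderOf i = 2) : i * i = 1 := sq_eq_one_of hi

theorem HK.invol_card (hK : HK K w Q) :
    Nat.card {i : QL K // orderOf i = 2 ∧ Commute i (qp K (cZ K)) ∧ i ≠ qp K (cZ K)} = 9 * w := by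
  haveI : Fact (Nat.Prime 2) := ⟨Nat.prime_two⟩
  let kt : {k : G // k ∈ Q ∧ orderOf (k * K.t) = 2} → cD K := fun k =>
    ⟨k.1 * K.t, mul_mem (hK.le_cD k.2.1) (cT K).2⟩
  have hktz : ∀ k, Commute (qp K (kt k)) (qp K (cZ K)) := fun k =>
    (mem_gH_iff K).1 (mul_mem (hK.le k.2.1) (t_mem_gH K))
  have hktne : ∀ k, qp K (kt k) ≠ qp K (cZ K) := by
    intro k h
    have e : kt k = ⟨k.1, hK.le_cD k.2.1⟩ * cT K := rfl
    rw [e, map_mul] at h
    refine hK.qt_notMem (a := 1) (k := (qp K ⟨k.1, hK.le_cD k.2.1⟩)⁻¹ * qp K (cZ K)) (one_mem _) ?_ ?_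
    · exact mul_mem (inv_mem (Subgroup.mem_map_of_mem _ k.2.1)) (Subgroup.mem_map_of_mem _ hK.z_mem)
    · rw [one_mul, ← h, inv_mul_cancel_left]
  let f : qA K × {k : G // k ∈ Q ∧ orderOf (k * K.t) = 2} →
      {i : QL K // orderOf i = 2 ∧ Commute i (qp K (cZ K)) ∧ i ≠ qp K (cZ K)} := fun p =>
    ⟨(p.1 : QL K) * qp K (kt p.2) * (p.1 : QL K)⁻¹, by
      rw [show (p.1 : QL K) * qp K (kt p.2) * (p.1 : QL K)⁻¹ = MulAut.conj (p.1 : QL K) (qp K (kt p.2))
        from rfl, MulEquiv.orderOf_eq, orderOf_qp K p.2.2.2],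
      ((qA_z K p.1.2).mul_left (hktz p.2)).mul_left (qA_z K p.1.2).inv_left, fun h => hktne p.2 (by
        have h' := mul_inv_eq_iff_eq_mul.1 h
        rw [← (qA_z K p.1.2).eq] at h'
        exact mul_left_cancel h')⟩
  have hf : Function.Bijective f := by
    refine ⟨?_, ?_⟩
    · rintro ⟨a, k⟩ ⟨a', k'⟩ h
      have h' : (a : QL K) * qp K (kt k) * (a : QL K)⁻¹ = (a' : QL K) * qp K (kt k') * (a' : QL K)⁻¹ :=
        congrArg Subtype.val h
      obtain ⟨γ, hγ, hγe⟩ := exists_of_qA K (mul_mem (inv_mem a'.2) a.2)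
      have h'' : qp K γ * qp K (kt k) * (qp K γ)⁻¹ = qp K (kt k') := by
        rw [hγe, show ((a' : QL K))⁻¹ * a * qp K (kt k) * ((a' : QL K)⁻¹ * a)⁻¹ =
          (a' : QL K)⁻¹ * ((a : QL K) * qp K (kt k) * (a : QL K)⁻¹) * a' by group, h']
        group
      have htγ := t_inv_qA K ((qp_mem_qA K).2 hγ)
      have e : ∀ k, qp K (kt k) = qp K ⟨k.1, hK.le_cD k.2.1⟩ * qp K (cT K) := fun k =>
        map_mul (qp K) ⟨k.1, hK.le_cD k.2.1⟩ (cT K)
      rw [e, e] at h''
      have h4 : qp K γ * qp K ⟨k.1, hK.le_cD k.2.1⟩ * qp K γ = qp K ⟨k'.1, hK.le_cD k'.2.1⟩ := by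
        refine mul_right_cancel (b := qp K (cT K)) ?_
        rw [← h'']
        have : qp K γ * qp K (cT K) = qp K (cT K) * (qp K γ)⁻¹ := by
          rw [eq_mul_inv_iff_mul_eq, mul_assoc, mul_inv_eq_iff_eq_mul.1 htγ, mul_inv_cancel_left]
        rw [mul_assoc (qp K γ * _), this]
        group
      have h5 : qp K (γ * ⟨k.1, hK.le_cD k.2.1⟩ * γ * (⟨k'.1, hK.le_cD k'.2.1⟩)⁻¹) = 1 := by
        rw [map_mul, map_mul, map_mul, map_inv, h4, mul_inv_cancel]
      have h6 : (γ : G) * k.1 * γ * (k'.1)⁻¹ ∈ Subgroup.zpowers (gd K) := (qp_eq_one K).1 h5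
      set δ := (γ : G) * k.1 * γ * (k'.1)⁻¹ with hδ
      have hn := hK.norm _ (gA_le_gH K hγ) _ k.2.1
      have h7 : ((γ : G) * k.1 * (γ : G)⁻¹) * ((γ : G) * γ) = δ * k'.1 := by rw [hδ]; group
      have hdk : Commute δ k'.1 := comm_dD K h6 (hK.le_cD k'.2.1)
      have h8 : (k'.1)⁻¹ * ((γ : G) * k.1 * (γ : G)⁻¹) = δ * ((γ : G) * γ)⁻¹ := by
        rw [inv_mul_eq_iff_eq_mul, ← mul_assoc, ← hdk.eq, ← h7, mul_inv_cancel_right]
      have h9 := eq_one_of_mem_two K hK (mul_mem (inv_mem k'.2.1) hn)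
        (h8 ▸ mul_mem (Subgroup.zpowers_le.2 (d_mem K) h6) (inv_mem (mul_mem hγ hγ)))
      have h10 : (γ : G) * γ ∈ Subgroup.zpowers (gd K) := by
        rw [h9, eq_comm, mul_inv_eq_one] at h8
        rw [← h8]; exact h6
      have hγ1 : qp K γ = 1 := by
        rw [qp_eq_one]
        have : (γ : G) = ((γ : G) * γ) * ((γ : G) * γ) := by
          rw [show ((γ : G) * γ) * ((γ : G) * γ) = γ ^ 3 * γ by simp [pow_succ, mul_assoc], cube K hγ,
            one_mul]
        rw [this]; exact mul_mem h10 h10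
      rw [hγ1, one_mul, mul_one] at h4
      rw [hγ1, eq_comm, inv_mul_eq_one] at hγe
      have h11 : qp K (⟨k.1, hK.le_cD k.2.1⟩ * (⟨k'.1, hK.le_cD k'.2.1⟩)⁻¹) = 1 := by
        rw [map_mul, map_inv, h4, mul_inv_cancel]
      exact Prod.ext (Subtype.ext hγe.symm) (Subtype.ext (mul_inv_eq_one.1
        (hK.eq_one (mul_mem k.2.1 (inv_mem k'.2.1)) ((qp_eq_one K).1 h11))))
    · rintro ⟨i, hi, hiz, hne⟩
      obtain ⟨a, ha, k, hk, he | he⟩ := hK.qsplit hiz
      · exact absurd he (hK.invol_outer hi hiz hne ha (Subgroup.mem_map_of_mem _ hk))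
      obtain ⟨α, hα, rfl⟩ := exists_of_qA K ha
      set β := α * α with hβ
      have hk' : (β : G) * k * (β : G)⁻¹ ∈ Q :=
        hK.norm _ (mul_mem (gA_le_gH K hα) (gA_le_gH K hα)) _ hk
      have ha3 : qp K α * qp K α * qp K α = 1 := by
        rw [← pow_two, ← pow_succ, cube_qA K ha]
      have ht : qp K (cT K) * (qp K α * qp K α) = (qp K α * qp K α)⁻¹ * qp K (cT K) := by
        rw [← t_inv_qA K (mul_mem ha ha)]; group
      let m : cD K := ⟨(β : G) * k * (β : G)⁻¹, hK.le_cD hk'⟩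
      have hm : qp K m * qp K (cT K) = qp K β⁻¹ * i * (qp K β⁻¹)⁻¹ := by
        have e : m = β * ⟨k, hK.le_cD hk⟩ * β⁻¹ := rfl
        rw [e, map_mul, map_mul, map_inv, inv_inv, hβ, map_mul, he,
          show (qp K α * qp K α)⁻¹ = qp K α from inv_eq_of_mul_eq_one_right ha3]
        rw [show qp K α * (qp K α * qp K ⟨k, hK.le_cD hk⟩ * qp K (cT K)) * (qp K α * qp K α) =
          qp K α * qp K α * qp K ⟨k, hK.le_cD hk⟩ * (qp K (cT K) * (qp K α * qp K α)) by group, ht,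
          show (qp K α * qp K α)⁻¹ = qp K α from inv_eq_of_mul_eq_one_right ha3]
        group
      have h2 : orderOf ((m : G) * K.t) = 2 := by
        refine orderOf_eq_prime ?_ fun h => hK.t_notMem (one_mem _) (inv_mem hk') (by
          rw [one_mul]; exact eq_inv_of_mul_eq_one_right h)
        have h3 : qp K ((m * cT K) ^ 2) = 1 := by
          rw [map_pow, map_mul, hm, conj_pow, ← hi, pow_orderOf_eq_one, mul_one, mul_inv_cancel]
        have h4 := (qp_eq_one K).1 h3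
        rw [SubmonoidClass.coe_pow, Subgroup.coe_mul, cT_coe] at h4
        refine hK.eq_one ?_ h4
        rw [pow_two, show (m : G) * K.t * ((m : G) * K.t) = (m : G) * (K.t * m * K.t) by group]
        have := hK.norm _ (t_mem_gH K) _ hk'
        rw [inv_of_two K.ht] at this
        exact mul_mem hk' this
      refine ⟨(⟨qp K β, by rw [hβ, map_mul]; exact mul_mem ha ha⟩,
        ⟨(m : G), hk', h2⟩), Subtype.ext ?_⟩
      show qp K β * qp K (kt ⟨(m : G), hk', h2⟩) * (qp K β)⁻¹ = i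
      have e : kt ⟨(m : G), hk', h2⟩ = m * cT K := rfl
      rw [e, map_mul (qp K) m (cT K), hm, map_inv]
      group
  rw [← Nat.card_eq_of_bijective f hf, Nat.card_prod, card_qA, hK.invert]

theorem qcontrol (hb : ∀ g : G, Commute g K.b → Commute g K.z) {a g : QL K} (ha : a ∈ qA K)
    (ha1 : a ≠ 1) (hga : g * a * g⁻¹ ∈ qA K) : Commute g (qp K (cZ K)) := by
  obtain ⟨α, hα, rfl⟩ := exists_of_qA K ha
  obtain ⟨γ, rfl⟩ := qp_surj K g
  rw [← map_inv, ← map_mul, ← map_mul, qp_mem_qA] at hga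
  exact (mem_gH_iff K).1 ⟨mem_centralizer_singleton_iff.2 (control K hb hα
    (fun h => ha1 ((qp_eq_one K).2 h)) (mem_centralizer_singleton_iff.1 γ.2) hga).eq, γ.2⟩

theorem HK.norm_of (hK : HK K w Q) {α : cD K} (hα : (α : G) ∈ gA K)
    (hout : qp K α ∉ Subgroup.zpowers (qp K (cE K))) {k : G} (hk : k ∈ Q)
    (hka : k * (α : G) * k⁻¹ ∈ gA K) : k = 1 ∨ k = K.z := by
  obtain ⟨i, j, l, he⟩ := exists_coord K hα
  have hl : l % 3 = 1 ∨ l % 3 = 2 := by
    by_contra hl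
    apply hout
    have hl0 : l % 3 = 0 := by omega
    rw [pow_eq_pow_mod l K.hy, hl0, pow_zero, mul_one] at he
    refine Subgroup.mem_zpowers_iff.2 ⟨j, ?_⟩
    have h1 : qp K (α * ((cE K) ^ j)⁻¹) = 1 := (qp_eq_one K).2 (by
      simp only [Subgroup.coe_mul, InvMemClass.coe_inv, SubmonoidClass.coe_pow, cE_coe]
      rw [he, mul_inv_cancel_right]; exact Subgroup.npow_mem_zpowers _ _)
    rw [map_mul, map_inv, map_pow, mul_inv_eq_one] at h1
    rw [h1, zpow_natCast]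
  have hkd : Commute k (gd K) := ((mem_gH K).1 (hK.le hk)).2
  have hkde : Commute k (gd K ^ i * ge K ^ j) :=
    (hkd.pow_right i).mul_right ((hK.comm_e k hk).pow_right j)
  have hyl : k * K.y ^ l * k⁻¹ ∈ gA K := by
    have h1 : k * K.y ^ l * k⁻¹ = (gd K ^ i * ge K ^ j)⁻¹ * (k * (α : G) * k⁻¹) := by
      rw [he, eq_inv_mul_iff_mul_eq, ← mul_assoc, ← mul_assoc, ← hkde.eq]
      group
    rw [h1]
    exact mul_mem (inv_mem (mul_mem (pow_mem (d_mem K) i) (pow_mem (e_mem K) j))) hka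
  have hy : k * K.y * k⁻¹ ∈ gA K := by
    have hll : l * l % 3 = 1 := by rcases hl with h | h <;> rw [Nat.mul_mod, h]
    have h2 : (K.y ^ l) ^ l = K.y := by rw [← pow_mul, pow_eq_pow_mod _ K.hy, hll, pow_one]
    have := pow_mem hyl l
    rwa [conj_pow, h2] at this
  refine hK.norm_A k hk fun a ha => conj_mem_gA K ?_ ?_ hy ha
  · rw [(hK.comm_b k hk).eq, mul_inv_cancel_right]; exact b_mem K
  · have hkx : Commute k K.x := by
      have := hkd.mul_right (hK.comm_b k hk).inv_right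
      rwa [mul_inv_cancel_right] at this
    rw [hkx.eq, mul_inv_cancel_right]; exact x_mem K

theorem HK.cent_small (hK : HK K w Q) (hb : ∀ g : G, Commute g K.b → Commute g K.z) {a : QL K}
    (ha : a ∈ qA K) (hout : a ∉ Subgroup.zpowers (qp K (cE K))) :
    Nat.card (centralizer ({a} : Set (QL K))) = 18 := by
  have ha1 : a ≠ 1 := fun h => hout (h ▸ one_mem _)
  have hz2 : orderOf (qp K (cZ K)) = 2 := orderOf_qp K K.hz
  have hzA : qp K (cZ K) ∉ qA K := fun h => by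
    have h3 := cube_qA K h
    rw [pow_succ, ← hz2, pow_orderOf_eq_one, one_mul] at h3
    rw [h3, orderOf_one] at hz2
    omega
  obtain ⟨α, hα, hαa⟩ := exists_of_qA K ha
  have hmem : ∀ g : QL K, Commute g a →
      ∃ a' ∈ qA K, g = a' ∨ g = a' * qp K (cZ K) := by
    intro g hg
    have hgz : Commute g (qp K (cZ K)) :=
      qcontrol hb ha ha1 (by rw [hg.eq, mul_inv_cancel_right]; exact ha)
    obtain ⟨a', ha', k, hk, he⟩ := hK.qsplit hgz
    have hk1 : k = 1 ∨ k = K.z → qp K ⟨k, hK.le_cD hk⟩ = 1 ∨ qp K ⟨k, hK.le_cD hk⟩ = qp K (cZ K) := by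
      rintro (rfl | rfl)
      · exact Or.inl (map_one (qp K))
      · exact Or.inr rfl
    rcases he with he | he
    · have hka : Commute (qp K ⟨k, hK.le_cD hk⟩) a := by
        have := (comm_qA K ha' ha).inv_left.mul_left hg
        rwa [he, inv_mul_cancel_left] at this
      have hkm : k * (α : G) * k⁻¹ ∈ gA K := by
        have h1 : qp K (⟨k, hK.le_cD hk⟩ * α * (⟨k, hK.le_cD hk⟩)⁻¹) ∈ qA K := by
          rw [map_mul, map_mul, map_inv, hαa, hka.eq, mul_inv_cancel_right]; exact ha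
        exact (qp_mem_qA K).1 h1
      rcases hk1 (hK.norm_of hα (hαa ▸ hout) hk hkm) with e | e
      · exact ⟨a', ha', Or.inl (by rw [he, e, mul_one])⟩
      · exact ⟨a', ha', Or.inr (by rw [he, e])⟩
    · exfalso
      have hka : Commute (qp K ⟨k, hK.le_cD hk⟩ * qp K (cT K)) a := by
        have := (comm_qA K ha' ha).inv_left.mul_left hg
        rwa [he, mul_assoc, inv_mul_cancel_left] at this
      have hconj : qp K ⟨k, hK.le_cD hk⟩ * a⁻¹ * (qp K ⟨k, hK.le_cD hk⟩)⁻¹ = a := by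
        rw [← t_inv_qA K ha]
        have := hka.eq
        calc qp K ⟨k, hK.le_cD hk⟩ * (qp K (cT K) * a * (qp K (cT K))⁻¹) * (qp K ⟨k, hK.le_cD hk⟩)⁻¹
            = (qp K ⟨k, hK.le_cD hk⟩ * qp K (cT K) * a) *
              (qp K ⟨k, hK.le_cD hk⟩ * qp K (cT K))⁻¹ := by group
          _ = a := by rw [this, mul_inv_cancel_right]
      have hkm : k * ((α⁻¹ : cD K) : G) * k⁻¹ ∈ gA K := by
        have h1 : qp K (⟨k, hK.le_cD hk⟩ * α⁻¹ * (⟨k, hK.le_cD hk⟩)⁻¹) ∈ qA K := by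
          rw [map_mul, map_mul, map_inv, map_inv, hαa, hconj]; exact ha
        exact (qp_mem_qA K).1 h1
      have hout' : qp K α⁻¹ ∉ Subgroup.zpowers (qp K (cE K)) := fun h => hout (by
        rw [map_inv, hαa] at h; simpa using inv_mem h)
      have hcomm : Commute (qp K ⟨k, hK.le_cD hk⟩) a⁻¹ := by
        rcases hk1 (hK.norm_of (inv_mem hα) hout' hk hkm) with e | e <;> rw [e]
        exacts [Commute.one_left _, (qA_z K ha).inv_left.symm]
      rw [hcomm.eq, mul_inv_cancel_right] at hconj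
      have h3 := cube_qA K ha
      apply ha1
      rw [show a ^ 3 = (a * a) * a by rw [pow_succ, pow_two]] at h3
      rwa [show a * a = 1 by nth_rw 1 [← hconj]; rw [inv_mul_cancel], one_mul] at h3
  let f : qA K × Bool → centralizer ({a} : Set (QL K)) := fun p =>
    ⟨(p.1 : QL K) * (if p.2 then qp K (cZ K) else 1), mem_centralizer_singleton_iff.2 (by
      refine ((comm_qA K p.1.2 ha).mul_left ?_).eq
      split_ifs
      exacts [(qA_z K ha).symm, Commute.one_left _])⟩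
  have hf : Function.Bijective f := by
    refine ⟨?_, ?_⟩
    · rintro ⟨a', i⟩ ⟨a'', j⟩ h
      have h' : (a' : QL K) * (if i then qp K (cZ K) else 1) =
          (a'' : QL K) * (if j then qp K (cZ K) else 1) := congrArg Subtype.val h
      cases i <;> cases j <;> simp only [if_true, Bool.false_eq_true, if_false, mul_one] at h'
      · rw [Subtype.ext h']
      · exact absurd (show qp K (cZ K) ∈ qA K by
          rw [show qp K (cZ K) = (a'' : QL K)⁻¹ * a' by rw [h', inv_mul_cancel_left]]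
          exact mul_mem (inv_mem a''.2) a'.2) hzA
      · exact absurd (show qp K (cZ K) ∈ qA K by
          rw [show qp K (cZ K) = (a' : QL K)⁻¹ * a'' by rw [← h', inv_mul_cancel_left]]
          exact mul_mem (inv_mem a'.2) a''.2) hzA
      · rw [Subtype.ext (mul_right_cancel h')]
    · rintro ⟨g, hg⟩
      obtain ⟨a', ha', rfl | rfl⟩ := hmem g (mem_centralizer_singleton_iff.1 hg)
      · exact ⟨(⟨g, ha'⟩, false), Subtype.ext (by simp [f])⟩
      · exact ⟨(⟨a', ha'⟩, true), Subtype.ext (by simp [f])⟩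
  rw [← Nat.card_eq_of_bijective f hf, Nat.card_prod, card_qA]
  simp

theorem HK.cent_big (hK : HK K w Q) (hb : ∀ g : G, Commute g K.b → Commute g K.z) :
    Nat.card (centralizer ({qp K (cE K)} : Set (QL K))) ≤ 72 := by
  have he : qp K (cE K) ∈ qA K := (qp_mem_qA K).2 (e_mem K)
  have hle : centralizer ({qp K (cE K)} : Set (QL K)) ≤ centralizer ({qp K (cZ K)} : Set (QL K)) := by
    intro g hg
    have hg' : Commute g (qp K (cE K)) := mem_centralizer_singleton_iff.1 hg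
    exact mem_centralizer_singleton_iff.2
      (qcontrol hb he (qE_ne_one K) (by rw [hg'.eq, mul_inv_cancel_right]; exact he)).eq
  have ht : qp K (cT K) ∈ centralizer ({qp K (cZ K)} : Set (QL K)) :=
    mem_centralizer_singleton_iff.2 ((mem_gH_iff K).1 (t_mem_gH K)).eq
  have hnt : qp K (cT K) ∉ centralizer ({qp K (cE K)} : Set (QL K)) := fun h => by
    have h1 := t_inv_qA K he
    rw [(mem_centralizer_singleton_iff.1 h : _ = _), mul_inv_cancel_right] at h1
    apply qE_ne_one K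
    have h3 := cube_qA K he
    rw [pow_succ, pow_two] at h3
    rwa [show qp K (cE K) * qp K (cE K) = 1 by nth_rw 2 [h1]; rw [mul_inv_cancel], one_mul] at h3
  obtain ⟨m, hm⟩ := Subgroup.card_dvd_of_le hle
  have hne : Nat.card (centralizer ({qp K (cE K)} : Set (QL K))) ≠
      Nat.card (centralizer ({qp K (cZ K)} : Set (QL K))) := fun h =>
    hnt (Subgroup.eq_of_le_of_card_ge hle h.ge ▸ ht)
  rw [card_centz K hK] at hm hne
  rcases hK.hw with rfl | rfl
  · have : Nat.card (centralizer ({qp K (cE K)} : Set (QL K))) ≤ 36 :=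
      Nat.le_of_dvd (by norm_num) ⟨m, by simpa using hm⟩
    omega
  · match m, hm with
    | 0, hm => omega
    | 1, hm => omega
    | m + 2, hm =>
      rw [Nat.mul_add] at hm
      omega

theorem card_cent_conj {L : Type*} [Group L] {a g : L} :
    Nat.card (centralizer ({g * a * g⁻¹} : Set L)) = Nat.card (centralizer ({a} : Set L)) := by
  refine (Nat.card_congr (Equiv.subtypeEquiv (MulAut.conj g).toEquiv fun c => ?_)).symm
  rw [mem_centralizer_singleton_iff, mem_centralizer_singleton_iff]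
  show _ ↔ g * c * g⁻¹ * (g * a * g⁻¹) = g * a * g⁻¹ * (g * c * g⁻¹)
  rw [show g * c * g⁻¹ * (g * a * g⁻¹) = g * (c * a) * g⁻¹ by group,
    show g * a * g⁻¹ * (g * c * g⁻¹) = g * (a * c) * g⁻¹ by group]
  exact ⟨fun h => by rw [h], fun h => mul_left_cancel (mul_right_cancel h)⟩

/-- Involutions commuting with the image of `z` are conjugate to it. -/
theorem isConj_z {i : QL K} (hi : orderOf i = 2) (hiz : Commute i (qp K (cZ K))) :
    IsConj i (qp K (cZ K)) := by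
  obtain ⟨c, hc2, rfl⟩ := exists_lift_invol K hi
  by_cases hcz : (c : G) = K.z
  · rw [show c = cZ K from Subtype.ext hcz]
  obtain ⟨v, hvz, hvd, hv⟩ := K.pairs c hc2 hcz ((mem_gH K).1 ((mem_gH_iff K).2 hiz)).1
    (mem_centralizer_singleton_iff.1 c.2)
  have key : ∀ g : G, Commute g (gd K) → g * K.z * g⁻¹ = v * c * v⁻¹ →
      IsConj (qp K c) (qp K (cZ K)) := by
    intro g hg he
    let γ : cD K := ⟨g⁻¹ * v, mem_centralizer_singleton_iff.2 (hg.inv_left.mul_left hvd).eq⟩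
    refine isConj_iff.2 ⟨qp K γ, ?_⟩
    rw [← map_inv, ← map_mul, ← map_mul]
    refine congrArg _ (Subtype.ext ?_)
    show g⁻¹ * v * c * (g⁻¹ * v)⁻¹ = K.z
    rw [show g⁻¹ * v * c * (g⁻¹ * v)⁻¹ = g⁻¹ * (v * c * v⁻¹) * g by group, ← he]
    group
  obtain ⟨gf, hgf1, hgf2⟩ := K.fuse
  have hgfd : Commute gf (gd K) := mul_inv_eq_iff_eq_mul.1 hgf2
  rcases hv with hv | hv
  · exact key gf hgfd (by rw [hgf1, hv])
  · refine key (K.h * gf * K.h⁻¹) ?_ ?_
    · have := commute_conj K.h hgfd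
      rw [h_d K] at this
      simpa using this.inv_right
    · rw [hv, show K.h * gf * K.h⁻¹ * K.z * (K.h * gf * K.h⁻¹)⁻¹ =
        K.h * gf * (K.h⁻¹ * K.z * K.h) * gf⁻¹ * K.h⁻¹ by group,
        show K.h⁻¹ * K.z * K.h = K.z by rw [mul_assoc, K.hzh.eq, inv_mul_cancel_left],
        show K.h * gf * K.z * gf⁻¹ * K.h⁻¹ = K.h * (gf * K.z * gf⁻¹) * K.h⁻¹ by group, hgf1, K.h_t]

theorem HK.two_part_one_class (hK : HK K w Q) :
    ((w ^ 2 ∣ Nat.card (QL K)) ∧ ¬ 2 * w ^ 2 ∣ Nat.card (QL K)) ∧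
      ∀ i : QL K, orderOf i = 2 → IsConj i (qp K (cZ K)) := by
  haveI : Fact (Nat.Prime 2) := ⟨Nat.prime_two⟩
  have hC := card_centz K hK
  have hdvd : w ^ 2 ∣ Nat.card (QL K) :=
    (dvd_mul_left _ 9).trans (hC ▸ Subgroup.card_subgroup_dvd_card _)
  have hz2 := orderOf_qp K (c := cZ K) K.hz
  obtain ⟨S, hS⟩ := (IsPGroup.of_card (n := 1) (G := Subgroup.zpowers (qp K (cZ K)))
    (by rw [Nat.card_zpowers, hz2, pow_one])).exists_le_sylow
  have hzS : qp K (cZ K) ∈ (S : Subgroup (QL K)) := hS (Subgroup.mem_zpowers _)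
  haveI : Nontrivial (S : Subgroup (QL K)) :=
    ⟨⟨⟨_, hzS⟩, 1, fun h => by
      have h' : qp K (cZ K) = 1 := congrArg Subtype.val h
      rw [h', orderOf_one] at hz2
      omega⟩⟩
  haveI := S.isPGroup'.center_nontrivial
  obtain ⟨⟨n, hn⟩⟩ := (⟨IsPGroup.iff_card.1 (S.isPGroup'.to_subgroup (Subgroup.center _))⟩ :
    Nonempty _)
  have hn0 : n ≠ 0 := by
    rintro rfl
    rw [pow_zero] at hn
    exact absurd hn (Finite.one_lt_card (α := Subgroup.center (S : Subgroup (QL K)))).ne'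
  obtain ⟨u, hu⟩ := exists_prime_orderOf_dvd_card' (G := Subgroup.center (S : Subgroup (QL K))) 2
    (by rw [hn]; exact dvd_pow_self 2 hn0)
  set v : QL K := ((u : (S : Subgroup (QL K))) : QL K) with hv
  have hv2 : orderOf v = 2 := by rw [hv, Subgroup.orderOf_coe, Subgroup.orderOf_coe, hu]
  have hvS : ∀ r ∈ (S : Subgroup (QL K)), Commute r v := fun r hr =>
    congrArg Subtype.val (Subgroup.mem_center_iff.1 u.2 ⟨r, hr⟩)
  obtain ⟨g, hg⟩ := isConj_iff.1 (isConj_z hv2 (hvS _ hzS).symm)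
  have hSle : (S : Subgroup (QL K)) ≤ centralizer ({v} : Set (QL K)) := fun r hr =>
    mem_centralizer_singleton_iff.2 (hvS r hr).eq
  have hSdvd := Subgroup.card_dvd_of_le hSle
  rw [← card_cent_conj (g := g), hg, hC] at hSdvd
  obtain ⟨e, he⟩ := IsPGroup.iff_card.1 S.isPGroup'
  have hSw : Nat.card (S : Subgroup (QL K)) ∣ w ^ 2 := by
    refine (Nat.Coprime.dvd_mul_left ?_).1 hSdvd
    rw [he]
    exact Nat.Coprime.pow_left _ (by norm_num)
  refine ⟨⟨hdvd, fun h2 => ?_⟩, fun i hi => ?_⟩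
  · obtain ⟨r, hr⟩ : ∃ r, 2 * w ^ 2 = 2 ^ r := by
      rcases hK.hw with rfl | rfl
      exacts [⟨3, rfl⟩, ⟨5, rfl⟩]
    have h3 : 2 * w ^ 2 ∣ Nat.card (S : Subgroup (QL K)) := by
      rw [hr] at h2 ⊢
      exact S.pow_dvd_card_of_pow_dvd_card h2
    have h4 := Nat.le_of_dvd (by rcases hK.hw with rfl | rfl <;> norm_num) (h3.trans hSw)
    rcases hK.hw with rfl | rfl <;> norm_num at h4
  · obtain ⟨S', hS'⟩ := (IsPGroup.of_card (n := 1) (G := Subgroup.zpowers i)
      (by rw [Nat.card_zpowers, hi, pow_one])).exists_le_sylow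
    obtain ⟨r, hr⟩ := MulAction.exists_smul_eq (QL K) S' S
    have hi' : r * i * r⁻¹ ∈ (S : Subgroup (QL K)) := by
      rw [← hr]
      exact Subgroup.smul_mem_pointwise_smul i (MulAut.conj r) _ (hS' (Subgroup.mem_zpowers _))
    have hc : Commute (g * (r * i * r⁻¹) * g⁻¹) (qp K (cZ K)) := hg ▸ commute_conj g (hvS _ hi')
    have h2 : IsConj i (g * (r * i * r⁻¹) * g⁻¹) := isConj_iff.2 ⟨g * r, by group⟩
    refine h2.trans (isConj_z ?_ hc)
    rw [show g * (r * i * r⁻¹) * g⁻¹ = MulAut.conj (g * r) i by simp [mul_assoc], MulEquiv.orderOf_eq, hi]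

theorem HK.three_part (hK : HK K w Q) (hb : ∀ g : G, Commute g K.b → Commute g K.z) :
    ¬ 27 ∣ Nat.card (QL K) := by
  haveI : Fact (Nat.Prime 3) := ⟨Nat.prime_three⟩
  intro h27
  obtain ⟨S, hS⟩ := (IsPGroup.of_card (p := 3) (n := 2) (G := qA K) (card_qA K)).exists_le_sylow
  have h3 : 3 ^ 3 ∣ Nat.card (S : Subgroup (QL K)) := S.pow_dvd_card_of_pow_dvd_card h27
  have hlt : qA K < (S : Subgroup (QL K)) := by
    refine lt_of_le_of_ne hS fun h => ?_
    rw [← h, card_qA] at h3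
    exact absurd (Nat.le_of_dvd (by norm_num) h3) (by norm_num)
  have hlt2 := H1.isPGroup_sup_lt_normalizer S.isPGroup' hlt
  set P : Subgroup (QL K) := (S : Subgroup (QL K)) ⊓ normalizer (qA K : Set (QL K)) with hP
  have he : qp K (cE K) ∈ qA K := (qp_mem_qA K).2 (e_mem K)
  have hPle : P ≤ centralizer ({qp K (cZ K)} : Set (QL K)) := fun g hg =>
    mem_centralizer_singleton_iff.2 (qcontrol hb he (qE_ne_one K)
      ((Subgroup.mem_normalizer_iff.1 hg.2 _).1 he)).eq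
  have hd := Subgroup.card_dvd_of_le hPle
  rw [card_centz K hK] at hd
  obtain ⟨k, hk⟩ := IsPGroup.iff_card.1 (S.isPGroup'.to_le (inf_le_left : P ≤ _))
  have h9 : 9 < 3 ^ k := by
    rw [← hk, ← card_qA K]
    refine lt_of_le_of_ne (Subgroup.card_le_of_le hlt2.le) fun h => ?_
    exact hlt2.ne (Subgroup.eq_of_le_of_card_ge hlt2.le h.ge)
  have hk3 : 3 ≤ k := by
    by_contra hk3
    have : 3 ^ k ≤ 3 ^ 2 := Nat.pow_le_pow_right (by norm_num) (by omega)
    omega
  have h27' : 27 ∣ 9 * w ^ 2 := (pow_dvd_pow 3 hk3).trans (hk ▸ hd)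
  rcases hK.hw with rfl | rfl <;> norm_num at h27'

theorem nonempty_LCfg (hK : HK K w Q) (hb : ∀ g : G, Commute g K.b → Commute g K.z) :
    Nonempty (LCfg (QL K)) :=
  ⟨{ z := qp K (cZ K)
     t := qp K (cT K)
     w := w
     A := qA K
     K := qK Q
     a₀ := qp K (cE K)
     hw := hK.hw
     hz := orderOf_qp K K.hz
     ht := orderOf_qp K K.ht
     cardC := card_centz K hK
     cardA := card_qA K
     cube := fun a ha => cube_qA K ha
     Az := fun a ha => qA_z K ha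
     ha₀ := ⟨(qp_mem_qA K).2 (e_mem K), qE_ne_one K⟩
     Kle := by
       rintro k ⟨c, hc, rfl⟩
       exact (mem_gH_iff K).1 (hK.le hc)
     cardK := by rw [hK.card_qK]; exact hK.card_Q
     zK := Subgroup.mem_map_of_mem _ hK.z_mem
     Knormal := by
       intro g hg k hk
       obtain ⟨γ, rfl⟩ := qp_surj K g
       obtain ⟨c, hc, rfl⟩ := hk
       rw [← map_inv, ← map_mul, ← map_mul]
       exact Subgroup.mem_map_of_mem _ (hK.norm _ ((mem_gH_iff K).2 hg) _ hc)
     tz := (mem_gH_iff K).1 (t_mem_gH K)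
     t_inv := fun a ha => t_inv_qA K ha
     ht_notMem := fun a ha k hk => hK.qt_notMem ha hk
     invol_outer := fun i h1 h2 h3 a ha k hk => hK.invol_outer h1 h2 h3 ha hk
     invol_card := hK.invol_card
     one_class := hK.two_part_one_class.2
     two_part := hK.two_part_one_class.1
     three_part := hK.three_part hb
     control := fun a ha ha1 g hg => qcontrol hb ha ha1 hg
     cent_small := fun a ha h => hK.cent_small hb ha h
     cent_big := hK.cent_big hb }⟩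

/-- The reduction module of S1645. -/
theorem reduce : H33.TwoAn.ReduceStmt.{u} := by
  intro G _ _ K hdata hb
  rcases hdata with ⟨-, h⟩ | ⟨⟨q, hq⟩, h⟩
  · exact ⟨QL K, inferInstance, inferInstance, nonempty_LCfg (hk_nine K h) hb⟩
  · obtain ⟨Q, hK⟩ := hk_ten K hq h
    exact ⟨QL K, inferInstance, inferInstance, nonempty_LCfg hK hb⟩

end H12.TwoAn
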