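import Cfsg.Agent.H12.TwoAn.SylowKill

/-!
# The four orders left by the order formula are impossible
-/

set_option autoImplicit false
set_option linter.unusedSectionVars false
set_option linter.style.haveILetI false

open Subgroup H33.TwoAn

namespace H12.TwoAn

universe u

/-- The orders left by the formula. -/
theorem order_cases {N : ℕ} {w : ℕ} (hw : w = 2 ∨ w = 4) {j : ℤ} (hj : j ≠ 0)
    (h : (N : ℤ) * j ^ 2 = 9 * (w : ℤ) ^ 4 * (18 * j + 1) * (9 * j + 1))
    (h2 : w ^ 2 ∣ N) (h2' : ¬ 2 * w ^ 2 ∣ N) (h3 : ¬ 27 ∣ N) (h9 : 9 ∣ N) :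
    (N = 25308 ∧ w = 2) ∨ (N = 21420 ∧ w = 2) ∨ (N = 388944 ∧ w = 4) ∨ (N = 357840 ∧ w = 4) := by
  have hd : j ^ 2 ∣ 9 * (w : ℤ) ^ 4 := by
    have hcop : IsCoprime (j ^ 2) ((18 * j + 1) * (9 * j + 1)) :=
      (IsCoprime.mul_right (x := j) ⟨-18, 1, by ring⟩ ⟨-9, 1, by ring⟩).pow_left
    refine hcop.dvd_of_dvd_mul_right ⟨(N : ℤ), ?_⟩
    linear_combination -h
  have hb : j ^ 2 ≤ 9 * (w : ℤ) ^ 4 := Int.le_of_dvd (by rcases hw with rfl | rfl <;> norm_num) hd
  rcases hw with rfl | rfl
  · norm_num at hb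
    have h1 : -12 ≤ j ∧ j ≤ 12 := ⟨by nlinarith, by nlinarith⟩
    obtain ⟨hl, hu⟩ := h1
    interval_cases j <;> first | (norm_num at hd; done) | (norm_num at hj; done) | (norm_num at h ⊢; omega)
  · norm_num at hb
    have h1 : -48 ≤ j ∧ j ≤ 48 := ⟨by nlinarith, by nlinarith⟩
    obtain ⟨hl, hu⟩ := h1
    interval_cases j <;> first | (norm_num at hd; done) | (norm_num at hj; done) | (norm_num at h ⊢; omega)

variable {L : Type u} [Group L] [Finite L] (K : LCfg L) {p : ℕ} [hp : Fact p.Prime]

/-- The number and normaliser order of the Sylow `p`-subgroups. -/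
theorem sylow_data {N M : ℕ} (hN : Nat.card L = N) (hM : N = p * M) (hpM : ¬ p ∣ M)
    (P : Sylow p L) :
    Nat.card (P : Subgroup L) = p ∧ Nat.card (Sylow p L) ∣ M ∧ Nat.card (Sylow p L) % p = 1 ∧
      Nat.card (Sylow p L) * Nat.card (normalizer ((P : Subgroup L) : Set L)) = N := by
  subst hN
  have hP : Nat.card (P : Subgroup L) = p := card_sylow_prime P ⟨M, hM⟩ fun h => hpM (by
    rw [hM, pow_two] at h
    exact Nat.dvd_of_mul_dvd_mul_left hp.out.pos h)
  refine ⟨hP, ?_, ?_, card_mul_normalizer P⟩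
  · have h := P.card_dvd_index
    have h2 : (P : Subgroup L).index = M :=
      Nat.eq_of_mul_eq_mul_left hp.out.pos
        (by rw [← hM, ← (P : Subgroup L).card_mul_index, hP])
    rwa [h2] at h
  · have h := card_sylow_modEq_one p L
    rwa [Nat.ModEq, Nat.one_mod_eq_one.2 hp.out.ne_one] at h

include K

/-- Subgroups of order 7 and 17 in the order 21420. -/
theorem false_of_21420 (hN : Nat.card L = 21420) (hw : K.w = 2) : False := by
  classical
  haveI : Fact (Nat.Prime 17) := ⟨by norm_num⟩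
  haveI : Fact (Nat.Prime 7) := ⟨by norm_num⟩
  haveI : Fact (Nat.Prime 5) := ⟨by norm_num⟩
  have hI : Nat.card {i : L // orderOf i = 2} = 595 := by
    have := card_invol_mul K
    rw [hN, hw] at this
    norm_num at this
    omega
  have h17C : ¬ 17 ∣ 9 * K.w ^ 2 := by rw [hw]; norm_num
  have h7C : ¬ 7 ∣ 9 * K.w ^ 2 := by rw [hw]; norm_num
  have h5C : ¬ 5 ∣ 9 * K.w ^ 2 := by rw [hw]; norm_num
  obtain ⟨P⟩ : Nonempty (Sylow 17 L) := inferInstance
  obtain ⟨hP, hPd, hPm, hPN⟩ := sylow_data hN (M := 1260) (by norm_num) (by norm_num) P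
  set n := Nat.card (Sylow 17 L) with hn
  have hn' : n = 1 ∨ n = 18 ∨ n = 35 ∨ n = 630 := by
    have hall : ∀ m ∈ Nat.divisors 1260, m % 17 = 1 → m = 1 ∨ m = 18 ∨ m = 35 ∨ m = 630 := by
      decide +kernel
    exact hall n (Nat.mem_divisors.2 ⟨hPd, by norm_num⟩) hPm
  have h9 := not_nine_dvd K hP h17C
  rcases hn' with h | h | h | h <;> rw [h] at hPN
  · omega
  · exact odd_normalizer K P hP h17C (by rw [← hn, h, hI]; norm_num) (by omega)
  · omega
  -- every subgroup of order 17 has normaliser of order 34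
  have hN17 : ∀ x : L, orderOf x = 17 → ∀ y : L, Commute y x → orderOf y ≠ 7 := by
    intro x hx y hxy hy
    obtain ⟨Q, hQ⟩ := exists_sylow_mem hx
    obtain ⟨hQc, -, -, hQN⟩ := sylow_data hN (M := 1260) (by norm_num) (by norm_num) Q
    rw [← hn, h] at hQN
    have hzq : Subgroup.zpowers x = (Q : Subgroup L) :=
      Subgroup.eq_of_le_of_card_ge (Subgroup.zpowers_le.2 hQ) (by rw [Nat.card_zpowers, hx, hQc])
    have hyN : y ∈ normalizer ((Q : Subgroup L) : Set L) := by
      rw [← hzq]
      refine centralizer_le_normalizer _ fun z hz => ?_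
      obtain ⟨i, rfl⟩ := Subgroup.mem_zpowers_iff.1 hz
      exact ((hxy.zpow_right i).eq).symm
    have := Subgroup.orderOf_dvd_natCard _ hyN
    rw [hy] at this
    omega
  obtain ⟨R⟩ : Nonempty (Sylow 7 L) := inferInstance
  obtain ⟨hR, hRd, hRm, hRN⟩ := sylow_data hN (M := 3060) (by norm_num) (by norm_num) R
  set m := Nat.card (Sylow 7 L) with hm
  have hm' : m = 1 ∨ m = 15 ∨ m = 36 ∨ m = 85 ∨ m = 204 ∨ m = 3060 := by
    have hall : ∀ m ∈ Nat.divisors 3060, m % 7 = 1 →
        m = 1 ∨ m = 15 ∨ m = 36 ∨ m = 85 ∨ m = 204 ∨ m = 3060 := by decide +kernel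
    exact hall m (Nat.mem_divisors.2 ⟨hRd, by norm_num⟩) hRm
  obtain ⟨v, hv, hv1, hvo⟩ := exists_gen hR
  have hno17 : ¬ 17 ∣ Nat.card (normalizer ((R : Subgroup L) : Set L)) := by
    intro hd
    obtain ⟨x, hx⟩ := exists_prime_orderOf_dvd_card' (G := normalizer ((R : Subgroup L) : Set L)) 17 hd
    rw [← Subgroup.orderOf_coe] at hx
    exact hN17 x hx v (commute_of_normalizes hR hv x.2 (q := 17) (by rw [← hx, pow_orderOf_eq_one])
      (by norm_num)).symm hvo
  have h9' := not_nine_dvd K hR h7C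
  rcases hm' with h' | h' | h' | h' | h' | h' <;> rw [h'] at hRN
  · omega
  · omega
  · omega
  · omega
  · -- normaliser of order 105
    set N := normalizer ((R : Subgroup L) : Set L) with hNdef
    have hNc : Nat.card N = 105 := by omega
    obtain ⟨y, hy⟩ := exists_prime_orderOf_dvd_card' (G := N) 5 (by rw [hNc]; norm_num)
    haveI : Fact (Nat.Prime 3) := ⟨Nat.prime_three⟩
    obtain ⟨a, ha⟩ := exists_prime_orderOf_dvd_card' (G := N) 3 (by rw [hNc]; norm_num)
    rw [← Subgroup.orderOf_coe] at hy ha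
    set C := N ⊓ centralizer ({v} : Set L) with hC
    have hyC : (y : L) ∈ C := ⟨y.2, Subgroup.mem_centralizer_singleton_iff.2
      (commute_of_normalizes hR hv y.2 (q := 5) (by rw [← hy, pow_orderOf_eq_one]) (by norm_num)).eq⟩
    have hvC : v ∈ C := ⟨Subgroup.le_normalizer hv, Subgroup.mem_centralizer_singleton_iff.2 rfl⟩
    have hCc : Nat.card C = 35 := by
      have h1 : Nat.card C ∣ 105 := by rw [← hNc]; exact Subgroup.card_dvd_of_le inf_le_left
      have h5 : 5 ∣ Nat.card C := by rw [← hy]; exact Subgroup.orderOf_dvd_natCard _ hyC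
      have h7 : 7 ∣ Nat.card C := by rw [← hvo]; exact Subgroup.orderOf_dvd_natCard _ hvC
      have h3 : ¬ 3 ∣ Nat.card C := by
        intro hd
        obtain ⟨e, he⟩ := exists_prime_orderOf_dvd_card' (G := C) 3 hd
        rw [← Subgroup.orderOf_coe] at he
        exact not_commute_three K (by rw [← he, pow_orderOf_eq_one])
          (fun h1 => by rw [h1, orderOf_one] at he; omega) hvo h7C
          (Subgroup.mem_centralizer_singleton_iff.1 e.2.2)
      have hall : ∀ c ∈ Nat.divisors 105, 5 ∣ c → 7 ∣ c → ¬ 3 ∣ c → c = 35 := by decide +kernel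
      exact hall _ (Nat.mem_divisors.2 ⟨h1, by norm_num⟩) h5 h7 h3
    -- `C` has one subgroup of order five
    obtain ⟨S⟩ : Nonempty (Sylow 5 C) := inferInstance
    obtain ⟨hS, hSd, hSm, -⟩ := sylow_data (L := C) hCc (M := 7) (by norm_num) (by norm_num) S
    have hS1 : Nat.card (Sylow 5 C) = 1 := by
      rcases (Nat.dvd_prime (by norm_num : Nat.Prime 7)).1 hSd with h1 | h1 <;> omega
    haveI := (Nat.card_eq_one_iff_unique.1 hS1).1
    have hmemC : ∀ w : L, w ∈ C → (a : L) * w * (a : L)⁻¹ ∈ C := by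
      intro w hw
      refine ⟨N.mul_mem (N.mul_mem a.2 hw.1) (N.inv_mem a.2), ?_⟩
      show (a : L) * w * (a : L)⁻¹ ∈ centralizer ({v} : Set L)
      have hav : (a : L) * v * (a : L)⁻¹ ∈ (R : Subgroup L) :=
        (Subgroup.mem_normalizer_iff.1 a.2 v).1 hv
      have hzv : Subgroup.zpowers v = (R : Subgroup L) :=
        Subgroup.eq_of_le_of_card_ge (Subgroup.zpowers_le.2 hv) (by rw [Nat.card_zpowers, hvo, hR])
      have hav' : (a : L)⁻¹ * v * (a : L) ∈ Subgroup.zpowers v := by
        rw [hzv]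
        simpa using (Subgroup.mem_normalizer_iff.1 (N.inv_mem a.2) v).1 hv
      obtain ⟨i, hi⟩ := Subgroup.mem_zpowers_iff.1 hav'
      have hwv : Commute w v := Subgroup.mem_centralizer_singleton_iff.1 hw.2
      rw [Subgroup.mem_centralizer_singleton_iff]
      calc (a : L) * w * (a : L)⁻¹ * v = (a : L) * (w * ((a : L)⁻¹ * v * (a : L))) * (a : L)⁻¹ := by
            group
        _ = (a : L) * (((a : L)⁻¹ * v * (a : L)) * w) * (a : L)⁻¹ := by
            rw [← hi, (hwv.zpow_right i).eq]
        _ = v * ((a : L) * w * (a : L)⁻¹) := by group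
    obtain ⟨S₁, hS₁⟩ := exists_sylow_mem (p := 5) (L := C) (x := ⟨y, hyC⟩)
      (by rw [← Subgroup.orderOf_coe]; exact hy)
    obtain ⟨S₂, hS₂⟩ := exists_sylow_mem (p := 5) (L := C) (x := ⟨_, hmemC _ hyC⟩)
      (by rw [← Subgroup.orderOf_coe]; show orderOf (MulAut.conj (a : L) (y : L)) = 5
          rw [MulEquiv.orderOf_eq, hy])
    obtain ⟨hS₁c, -⟩ := sylow_data (L := C) hCc (M := 7) (by norm_num) (by norm_num) S₁
    rw [Subsingleton.elim S₂ S₁] at hS₂
    set Y : Subgroup L := Subgroup.zpowers (y : L) with hY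
    have hYc : Nat.card Y = 5 := by rw [hY, Nat.card_zpowers, hy]
    have hmap : (S₁ : Subgroup C).map C.subtype = Y := (Subgroup.eq_of_le_of_card_ge
      (Subgroup.zpowers_le.2 (Subgroup.mem_map_of_mem C.subtype hS₁))
      (by rw [Subgroup.card_map_of_injective C.subtype_injective, hS₁c, Nat.card_zpowers]
          exact hy.ge)).symm
    have haY : (a : L) ∈ normalizer (Y : Set L) := by
      have hle : Y.map (MulAut.conj (a : L)).toMonoidHom ≤ Y := by
        rw [hY, MonoidHom.map_zpowers, Subgroup.zpowers_le, ← hY, ← hmap]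
        exact Subgroup.mem_map_of_mem C.subtype hS₂
      have heq := Subgroup.eq_of_le_of_card_ge hle
        (by rw [Subgroup.card_map_of_injective (MulEquiv.injective _)])
      rw [Subgroup.mem_normalizer_iff]
      intro w
      conv_rhs => rw [← heq]
      exact (Subgroup.mem_map_equiv.trans (by simp [mul_assoc])).symm
    refine not_commute_three K (a := (a : L)) (by rw [← ha, pow_orderOf_eq_one])
      (fun h1 => by rw [h1, orderOf_one] at ha; omega) hy h5C ?_
    exact commute_of_normalizes hYc (Subgroup.mem_zpowers _) haY (q := 3)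
      (by rw [← ha, pow_orderOf_eq_one]) (by norm_num)
  · -- too many elements
    haveI := Fintype.ofFinite L
    have key : ∀ (q : ℕ) [Fact q.Prime] (c : ℕ), (∀ Q : Sylow q L, Nat.card (Q : Subgroup L) = q) →
        Nat.card (Sylow q L) = c →
        c * (q - 1) ≤ (Finset.univ.filter fun x : L => orderOf x = q).card := by
      intro q _ c hQ hc
      haveI := Fintype.ofFinite (Sylow q L)
      have hdis : ∀ Q ∈ (Finset.univ : Finset (Sylow q L)), ∀ Q' ∈ (Finset.univ : Finset (Sylow q L)),
          Q ≠ Q' → Disjoint ((Finset.univ : Finset L).filter fun x => x ∈ (Q : Subgroup L) ∧ x ≠ 1)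
            ((Finset.univ : Finset L).filter fun x => x ∈ (Q' : Subgroup L) ∧ x ≠ 1) := by
        intro Q _ Q' _ hne
        rw [Finset.disjoint_left]
        intro x hx hx'
        simp only [Finset.mem_filter, Finset.mem_univ, true_and] at hx hx'
        apply hne
        have e : ∀ Q : Sylow q L, x ∈ (Q : Subgroup L) → Subgroup.zpowers x = (Q : Subgroup L) := by
          intro Q hxQ
          refine Subgroup.eq_of_le_of_card_ge (Subgroup.zpowers_le.2 hxQ) ?_
          have hpx : orderOf x = q := orderOf_eq_prime (by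
            have := pow_card_eq_one' (x := (⟨x, hxQ⟩ : (Q : Subgroup L)))
            rw [hQ Q] at this
            exact congrArg Subtype.val this) hx.2
          rw [Nat.card_zpowers, hpx, hQ Q]
        exact Sylow.ext ((e Q hx.1).symm.trans (e Q' hx'.1))
      refine le_trans ?_ (Finset.card_le_card (s := Finset.univ.biUnion fun Q : Sylow q L =>
        (Finset.univ : Finset L).filter fun x => x ∈ (Q : Subgroup L) ∧ x ≠ 1) ?_)
      · rw [Finset.card_biUnion hdis, Finset.sum_congr rfl fun Q _ => ?_, Finset.sum_const,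
          Finset.card_univ, ← Nat.card_eq_fintype_card, hc, smul_eq_mul]
        show _ = q - 1
        rw [show ((Finset.univ : Finset L).filter fun x => x ∈ (Q : Subgroup L) ∧ x ≠ 1) =
            ((Finset.univ : Finset L).filter fun x => x ∈ (Q : Subgroup L)).erase 1 by
              ext; simp [and_comm],
          Finset.card_erase_of_mem (by simp), ← Fintype.card_subtype, ← Nat.card_eq_fintype_card,
          hQ Q]
      · intro x hx
        obtain ⟨Q, -, hxQ⟩ := Finset.mem_biUnion.1 hx
        simp only [Finset.mem_filter, Finset.mem_univ, true_and] at hxQ ⊢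
        exact orderOf_eq_prime (by
          have := pow_card_eq_one' (x := (⟨x, hxQ.1⟩ : (Q : Subgroup L)))
          rw [hQ Q] at this
          exact congrArg Subtype.val this) hxQ.2
    have k17 := key 17 630 (fun Q => (sylow_data hN (M := 1260) (by norm_num) (by norm_num) Q).1) h
    have k7 := key 7 3060 (fun Q => (sylow_data hN (M := 3060) (by norm_num) (by norm_num) Q).1) h'
    have hsum : (Finset.univ.filter fun x : L => orderOf x = 17).card +
        (Finset.univ.filter fun x : L => orderOf x = 7).card ≤ 21420 := by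
      rw [← Finset.card_union_of_disjoint (Finset.disjoint_left.2 fun x hx hx' => by
        simp only [Finset.mem_filter] at hx hx'
        omega), ← hN, Nat.card_eq_fintype_card]
      exact Finset.card_le_univ _
    omega

theorem false_of_25308 (hN : Nat.card L = 25308) (hw : K.w = 2) : False := by
  haveI : Fact (Nat.Prime 37) := ⟨by norm_num⟩
  obtain ⟨P⟩ : Nonempty (Sylow 37 L) := inferInstance
  obtain ⟨hP, hPd, hPm, hPN⟩ := sylow_data hN (M := 684) (by norm_num) (by norm_num) P
  have hall : ∀ m ∈ Nat.divisors 684, m % 37 = 1 → m = 1 ∨ m = 38 := by decide +kernel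
  have h9 := not_nine_dvd K hP (by rw [hw]; norm_num)
  rcases hall _ (Nat.mem_divisors.2 ⟨hPd, by norm_num⟩) hPm with h | h <;> rw [h] at hPN <;> omega

theorem false_of_388944 (hN : Nat.card L = 388944) (hw : K.w = 4) : False := by
  haveI : Fact (Nat.Prime 73) := ⟨by norm_num⟩
  obtain ⟨P⟩ : Nonempty (Sylow 73 L) := inferInstance
  obtain ⟨hP, hPd, hPm, hPN⟩ := sylow_data hN (M := 5328) (by norm_num) (by norm_num) P
  have hall : ∀ m ∈ Nat.divisors 5328, m % 73 = 1 → m = 1 ∨ m = 74 := by decide +kernel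
  have h9 := not_nine_dvd K hP (by rw [hw]; norm_num)
  rcases hall _ (Nat.mem_divisors.2 ⟨hPd, by norm_num⟩) hPm with h | h <;> rw [h] at hPN <;> omega

theorem false_of_357840 (hN : Nat.card L = 357840) (hw : K.w = 4) : False := by
  haveI : Fact (Nat.Prime 71) := ⟨by norm_num⟩
  obtain ⟨P⟩ : Nonempty (Sylow 71 L) := inferInstance
  obtain ⟨hP, hPd, hPm, hPN⟩ := sylow_data hN (M := 5040) (by norm_num) (by norm_num) P
  have hall : ∀ m ∈ Nat.divisors 5040, m % 71 = 1 → m = 1 ∨ m = 72 := by decide +kernel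
  have hI : Nat.card {i : L // orderOf i = 2} = 2485 := by
    have := card_invol_mul K
    rw [hN, hw] at this
    norm_num at this
    omega
  rcases hall _ (Nat.mem_divisors.2 ⟨hPd, by norm_num⟩) hPm with h | h
  · have h9 := not_nine_dvd K hP (by rw [hw]; norm_num)
    rw [h] at hPN
    omega
  · refine odd_normalizer K P hP (by rw [hw]; norm_num) (by rw [h, hI]; norm_num) ?_
    rw [h] at hPN
    omega

omit K in
theorem sylow : SylowStmt.{u} := by
  intro L _ _ K hex
  obtain ⟨j, hj, h⟩ := hex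
  rcases order_cases K.hw hj h K.two_part.1 K.two_part.2 K.three_part
      (K.cardA ▸ Subgroup.card_subgroup_dvd_card K.A) with
    ⟨hN, hw⟩ | ⟨hN, hw⟩ | ⟨hN, hw⟩ | ⟨hN, hw⟩
  · exact false_of_25308 K hN hw
  · exact false_of_21420 K hN hw
  · exact false_of_388944 K hN hw
  · exact false_of_357840 K hN hw

end H12.TwoAn
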