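import Cfsg.Agent.H12.TwoAn.SylowTools

/-!
# Obstructions to Sylow subgroups of prime order away from the involution centraliser
-/

set_option autoImplicit false
set_option linter.unusedSectionVars false
set_option linter.style.haveILetI false

open Subgroup H33.TwoAn

namespace H12.TwoAn

universe u

variable {L : Type u} [Group L] [Finite L] (K : LCfg L) {p : ℕ} [hp : Fact p.Prime]

include K

theorem card_sylow_three (S : Sylow 3 L) : Nat.card (S : Subgroup L) = 9 := by
  haveI : Fact (Nat.Prime 3) := ⟨Nat.prime_three⟩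
  rw [S.card_eq_multiplicity]
  have h2 : 2 ≤ (Nat.card L).factorization 3 :=
    (Nat.prime_three.pow_dvd_iff_le_factorization Nat.card_pos.ne').1
      (by rw [show 3 ^ 2 = Nat.card K.A by rw [K.cardA]; rfl]; exact Subgroup.card_subgroup_dvd_card _)
  have h3 : ¬ 3 ≤ (Nat.card L).factorization 3 := fun h =>
    K.three_part ((Nat.prime_three.pow_dvd_iff_le_factorization (k := 3) Nat.card_pos.ne').2 h)
  rw [show (Nat.card L).factorization 3 = 2 by omega]; rfl

/-- A conjugate of a 3-subgroup lies in `A`. -/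
theorem exists_conj_mem_A {S : Subgroup L} (hS : IsPGroup 3 S) :
    ∃ g : L, ∀ s ∈ S, g * s * g⁻¹ ∈ K.A := by
  haveI : Fact (Nat.Prime 3) := ⟨Nat.prime_three⟩
  have hA : IsPGroup 3 K.A := IsPGroup.of_card (n := 2) (by rw [K.cardA]; rfl)
  obtain ⟨T, hT⟩ := hA.exists_le_sylow
  have hTA : K.A = (T : Subgroup L) :=
    Subgroup.eq_of_le_of_card_ge hT (by rw [card_sylow_three K T, K.cardA])
  obtain ⟨S', hS'⟩ := hS.exists_le_sylow
  obtain ⟨g, hg⟩ := MulAction.exists_smul_eq L S' T
  refine ⟨g, fun s hs => ?_⟩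
  rw [hTA, ← hg, Sylow.coe_subgroup_smul, Subgroup.mem_pointwise_smul_iff_inv_smul_mem]
  have : (MulAut.conj g)⁻¹ • (g * s * g⁻¹) = s := by
    simp [MulAut.smul_def, mul_assoc]
  rw [this]
  exact hS' hs

/-- Elements of order three commute only with elements of order dividing `|C(z)|`. -/
theorem not_commute_three {a x : L} (ha : a ^ 3 = 1) (ha1 : a ≠ 1) (hx : orderOf x = p)
    (hpC : ¬ p ∣ 9 * K.w ^ 2) : ¬ Commute a x := by
  intro hc
  haveI : Fact (Nat.Prime 3) := ⟨Nat.prime_three⟩
  obtain ⟨g, hg⟩ := exists_conj_mem_A K (S := Subgroup.zpowers a)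
    (IsPGroup.of_card (n := 1) (by rw [Nat.card_zpowers, orderOf_eq_prime ha ha1, pow_one]))
  have haA := hg a (Subgroup.mem_zpowers a)
  have hconj : g * x * g⁻¹ * (g * a * g⁻¹) * (g * x * g⁻¹)⁻¹ = g * a * g⁻¹ := by
    calc g * x * g⁻¹ * (g * a * g⁻¹) * (g * x * g⁻¹)⁻¹ = g * (x * a) * x⁻¹ * g⁻¹ := by group
      _ = g * (a * x) * x⁻¹ * g⁻¹ := by rw [hc.eq]
      _ = g * a * g⁻¹ := by group
  have hz := K.control _ haA (fun h => ha1 (conj_eq_one_iff.1 h)) (g * x * g⁻¹) (by rwa [hconj])
  apply hpC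
  rw [← K.cardC, ← hx]
  have h1 := Subgroup.orderOf_dvd_natCard (Subgroup.centralizer ({K.z} : Set L))
    (Subgroup.mem_centralizer_singleton_iff.2 hz.eq)
  rwa [show g * x * g⁻¹ = MulAut.conj g x from rfl, MulEquiv.orderOf_eq] at h1

theorem not_commute_invol {i x : L} (hi : orderOf i = 2) (hx : orderOf x = p)
    (hpC : ¬ p ∣ 9 * K.w ^ 2) : ¬ Commute i x := by
  intro hc
  obtain ⟨g, hg⟩ := isConj_iff.1 (K.one_class i hi)
  apply hpC
  rw [← K.cardC, ← hx]
  have h1 := Subgroup.orderOf_dvd_natCard (Subgroup.centralizer ({K.z} : Set L)) (x := g * x * g⁻¹)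
    (Subgroup.mem_centralizer_singleton_iff.2 (by
      rw [← hg]
      calc g * x * g⁻¹ * (g * i * g⁻¹) = g * (x * i) * g⁻¹ := by group
        _ = g * (i * x) * g⁻¹ := by rw [hc.eq]
        _ = g * i * g⁻¹ * (g * x * g⁻¹) := by group))
  rwa [show g * x * g⁻¹ = MulAut.conj g x from rfl, MulEquiv.orderOf_eq] at h1

omit K in
theorem exists_gen {P : Subgroup L} (hP : Nat.card P = p) : ∃ u ∈ P, u ≠ 1 ∧ orderOf u = p := by
  obtain ⟨⟨u, hu⟩, huo⟩ := exists_prime_orderOf_dvd_card' (G := P) p (by rw [hP])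
  rw [Subgroup.orderOf_mk] at huo
  exact ⟨u, hu, fun h => by rw [h, orderOf_one] at huo; exact hp.out.one_lt.ne huo, huo⟩

/-- No Sylow subgroup of order `p` has normaliser of order divisible by nine. -/
theorem not_nine_dvd {P : Subgroup L} (hP : Nat.card P = p) (hpC : ¬ p ∣ 9 * K.w ^ 2) :
    ¬ 9 ∣ Nat.card (normalizer (P : Set L)) := by
  classical
  intro h9
  haveI : Fact (Nat.Prime 3) := ⟨Nat.prime_three⟩
  obtain ⟨S, hS⟩ := Sylow.exists_subgroup_card_pow_prime (G := normalizer (P : Set L)) 3 (n := 2) h9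
  obtain ⟨g, hg⟩ := exists_conj_mem_A K (S := S.map (normalizer (P : Set L)).subtype)
    ((IsPGroup.of_card (n := 2) hS).map _)
  have hcube : ∀ s : S, ((s : normalizer (P : Set L)) : L) ^ 3 = 1 := fun s => by
    have h := K.cube _ (hg _ (Subgroup.mem_map_of_mem _ s.2))
    rw [conj_pow, conj_eq_one_iff] at h
    exact h
  obtain ⟨u, hu, hu1, huo⟩ := exists_gen hP
  choose k hk hkq using fun s : S => exists_conj_eq_pow hP hu hu1 (s : normalizer (P : Set L)).2
  haveI : Fintype S := Fintype.ofFinite _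
  have hcard : (Finset.univ.image fun s : S => (k s : ZMod p)).card < Fintype.card S := by
    refine lt_of_le_of_lt (Finset.card_le_card (t := (Polynomial.nthRoots 3 (1 : ZMod p)).toFinset)
      fun x hx => ?_) ?_
    · obtain ⟨s, -, rfl⟩ := Finset.mem_image.1 hx
      rw [Multiset.mem_toFinset, Polynomial.mem_nthRoots (by norm_num)]
      exact hkq s 3 (hcube s)
    · refine lt_of_le_of_lt ((Multiset.toFinset_card_le _).trans (Polynomial.card_nthRoots 3 _)) ?_
      rw [← Nat.card_eq_fintype_card, hS]; norm_num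
  obtain ⟨s, -, s', -, hne, heq⟩ := Finset.exists_ne_map_eq_of_card_lt_of_maps_to
    (s := (Finset.univ : Finset S)) (t := Finset.univ.image fun s : S => (k s : ZMod p))
    (by simpa [Finset.card_univ] using hcard)
    (f := fun s : S => (k s : ZMod p)) (fun s _ => Finset.mem_image_of_mem _ (Finset.mem_univ s))
  have hu' : u ^ k s = u ^ k s' := by
    rw [pow_eq_pow_iff_modEq, huo, ← ZMod.natCast_eq_natCast_iff]; exact heq
  rw [← hk, ← hk] at hu'
  refine not_commute_three K (a := (((s⁻¹ * s' : S) : normalizer (P : Set L)) : L)) (hcube _) ?_ huo hpC ?_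
  · rw [Ne, OneMemClass.coe_eq_one, OneMemClass.coe_eq_one, inv_mul_eq_one]
    exact hne
  · show _ * u = u * _
    push_cast
    rw [← mul_inv_eq_iff_eq_mul]
    calc ((s : normalizer (P : Set L)) : L)⁻¹ * ((s' : normalizer (P : Set L)) : L) * u *
          (((s : normalizer (P : Set L)) : L)⁻¹ * ((s' : normalizer (P : Set L)) : L))⁻¹
        = ((s : normalizer (P : Set L)) : L)⁻¹ * (((s' : normalizer (P : Set L)) : L) * u *
            ((s' : normalizer (P : Set L)) : L)⁻¹) * ((s : normalizer (P : Set L)) : L) := by group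
      _ = u := by rw [← hu']; group

/-- Not every involution normalises a fixed subgroup of order `p`. -/
theorem exists_invol_not_normalizing {P : Subgroup L} (hP : Nat.card P = p)
    (hpC : ¬ p ∣ 9 * K.w ^ 2) : ∃ i : L, orderOf i = 2 ∧ i ∉ normalizer (P : Set L) := by
  by_contra hall
  push Not at hall
  obtain ⟨u, hu, hu1, huo⟩ := exists_gen hP
  have hinv : ∀ i : L, orderOf i = 2 → i * u * i⁻¹ = u⁻¹ := fun i hi =>
    (inverts_of_normalizes hP hu hu1 (hall i hi) (by rw [← hi, pow_orderOf_eq_one])).resolve_left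
      (not_commute_invol K hi huo hpC)
  obtain ⟨ha, ha1⟩ := K.ha₀
  have htt : K.t * K.t = 1 := by rw [← pow_two, ← K.ht, pow_orderOf_eq_one]
  have hta : orderOf (K.t * K.a₀) = 2 := by
    refine orderOf_eq_prime ?_ fun h => ?_
    · rw [pow_two, show K.t * K.a₀ * (K.t * K.a₀) = (K.t * K.a₀ * K.t⁻¹) * (K.t * K.t) * K.a₀ by group,
        htt, K.t_inv _ ha, mul_one, inv_mul_cancel]
    · exact K.ht_notMem _ (inv_mem ha) 1 (one_mem _) (by rw [mul_one]; exact eq_inv_of_mul_eq_one_left h)
  refine not_commute_three K (K.cube _ ha) ha1 huo hpC ?_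
  show K.a₀ * u = u * K.a₀
  rw [← mul_inv_eq_iff_eq_mul]
  calc K.a₀ * u * K.a₀⁻¹ = K.t * ((K.t * K.a₀) * u * (K.t * K.a₀)⁻¹) * K.t⁻¹ := by
        rw [mul_inv_rev, inv_eq_of_mul_eq_one_right htt]
        rw [show K.t * (K.t * K.a₀ * u * (K.a₀⁻¹ * K.t)) * K.t =
          (K.t * K.t) * (K.a₀ * u * K.a₀⁻¹) * (K.t * K.t) by group, htt, one_mul, mul_one]
    _ = u := by rw [hinv _ hta, ← conj_inv, hinv _ K.ht, inv_inv]

theorem card_invol_mul : Nat.card {i : L // orderOf i = 2} * (9 * K.w ^ 2) = Nat.card L := by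
  have h1 : Nat.card {i : L // orderOf i = 2} = Nat.card {x : L // IsConj K.z x} := by
    refine Nat.card_congr (Equiv.subtypeEquivRight fun x => ⟨fun h => (K.one_class x h).symm, fun h => ?_⟩)
    obtain ⟨c, rfl⟩ := isConj_iff.1 h
    rw [show c * K.z * c⁻¹ = MulAut.conj c K.z from rfl, MulEquiv.orderOf_eq, K.hz]
  have h2 : Nat.card {x : L // IsConj K.z x} = (Subgroup.centralizer ({K.z} : Set L)).index := by
    rw [show Nat.card {x : L // IsConj K.z x} = (MulAction.orbit (ConjAct L) K.z).ncard by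
        rw [← Nat.card_coe_set_eq]
        refine Nat.card_congr (Equiv.subtypeEquivRight fun x => ?_)
        rw [ConjAct.mem_orbit_conjAct, isConj_comm],
      ← MulAction.index_stabilizer, ConjAct.stabilizer_eq_centralizer]
    rfl
  rw [h1, h2, ← K.cardC]
  exact Subgroup.index_mul_card _

/-- If the number of Sylow subgroups is prime to the number of involutions their normalisers have
odd order. -/
theorem odd_normalizer (P : Sylow p L) (hP : Nat.card (P : Subgroup L) = p)
    (hpC : ¬ p ∣ 9 * K.w ^ 2)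
    (hcop : Nat.Coprime (Nat.card (Sylow p L)) (Nat.card {i : L // orderOf i = 2})) :
    ¬ 2 ∣ Nat.card (normalizer ((P : Subgroup L) : Set L)) := by
  classical
  intro h2
  haveI : Fact (Nat.Prime 2) := ⟨Nat.prime_two⟩
  haveI := Fintype.ofFinite L
  haveI := Fintype.ofFinite (Sylow p L)
  set I : Finset L := Finset.univ.filter (fun i => orderOf i = 2) with hI
  let R : L → Sylow p L → Prop := fun i Q => i • Q = Q
  have hconj : ∀ (g i : L) (Q : Sylow p L), R (g * i * g⁻¹) (g • Q) ↔ R i Q := fun g i Q => by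
    simp only [R]
    rw [← mul_smul,
      show g * i * g⁻¹ * g = g * i by group, mul_smul]
    exact (MulAction.injective g).eq_iff
  have hm : ∀ i ∈ I, (Finset.univ.filter fun Q => R i Q).card =
      (Finset.univ.filter fun Q => R K.z Q).card := by
    intro i hi
    obtain ⟨g, hg⟩ := isConj_iff.1 (K.one_class i (Finset.mem_filter.1 hi).2)
    exact Finset.card_equiv (MulAction.toPerm g) fun Q => by
      simp only [Finset.mem_filter, Finset.mem_univ, true_and, MulAction.toPerm_apply]
      rw [← hg, hconj]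
  have hk : ∀ Q : Sylow p L, (I.filter fun i => R i Q).card = (I.filter fun i => R i P).card := by
    intro Q
    obtain ⟨g, rfl⟩ := MulAction.exists_smul_eq L P Q
    refine (Finset.card_equiv (MulAut.conj g).toEquiv fun i => ?_).symm
    simp only [hI, Finset.mem_filter, Finset.mem_univ, true_and, MulEquiv.toEquiv_eq_coe,
      EquivLike.coe_coe, MulEquiv.orderOf_eq, MulAut.conj_apply, hconj]
    rw [show g * i * g⁻¹ = MulAut.conj g i from rfl, MulEquiv.orderOf_eq]
  set n := Nat.card (Sylow p L) with hn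
  set m := (Finset.univ.filter fun Q => R K.z Q).card with hmdef
  set k := (I.filter fun i => R i P).card with hkdef
  have hdc : n * k = I.card * m := by
    have h := Finset.sum_card_bipartiteAbove_eq_sum_card_bipartiteBelow (r := R) (s := I)
      (t := (Finset.univ : Finset (Sylow p L)))
    simp only [Finset.bipartiteAbove, Finset.bipartiteBelow] at h
    rw [Finset.sum_congr rfl hm, Finset.sum_congr rfl fun Q _ => hk Q, Finset.sum_const,
      Finset.sum_const, smul_eq_mul, smul_eq_mul, Finset.card_univ, ← Nat.card_eq_fintype_card] at h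
    exact h.symm
  have hkpos : 0 < k := by
    obtain ⟨i, hi⟩ := exists_prime_orderOf_dvd_card' (G := normalizer ((P : Subgroup L) : Set L)) 2 h2
    refine Finset.card_pos.2 ⟨(i : L), Finset.mem_filter.2 ⟨Finset.mem_filter.2 ⟨Finset.mem_univ _, ?_⟩,
      Sylow.smul_eq_iff_mem_normalizer.2 i.2⟩⟩
    rw [Subgroup.orderOf_coe, hi]
  have hIc : I.card = Nat.card {i : L // orderOf i = 2} := by
    rw [Nat.card_eq_fintype_card, Fintype.card_subtype, hI]
  have hdvd : n ∣ m := by
    rw [← hIc] at hcop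
    exact hcop.dvd_of_dvd_mul_left ⟨k, hdc.symm⟩
  have hnpos : 0 < n := Nat.card_pos
  have hmpos : 0 < m := by
    rcases Nat.eq_zero_or_pos m with h0 | h0
    · rw [h0, mul_zero, mul_eq_zero] at hdc; omega
    · exact h0
  obtain ⟨i, hi, hni⟩ := exists_invol_not_normalizing K hP hpC
  have hlt : (Finset.univ.filter fun Q => R i Q).card < n := by
    rw [hn, Nat.card_eq_fintype_card, ← Finset.card_univ]
    exact Finset.card_lt_card ((Finset.filter_ssubset).2
      ⟨P, Finset.mem_univ _, fun h => hni (Sylow.smul_eq_iff_mem_normalizer.1 h)⟩)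
  rw [hm i (Finset.mem_filter.2 ⟨Finset.mem_univ _, hi⟩)] at hlt
  exact absurd (Nat.le_of_dvd hmpos hdvd) (by omega)

end H12.TwoAn
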