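import Cfsg.Agent.H33.TwoAn.Defs

/-!
# Sylow subgroups of prime order in the configuration `C(d)/⟨d⟩`
-/

set_option autoImplicit false
set_option linter.unusedSectionVars false

open Subgroup

namespace H12.TwoAn

universe u

variable {L : Type u} [Group L] [Finite L] {p : ℕ} [hp : Fact p.Prime]

theorem card_sylow_prime (P : Sylow p L) (h1 : p ∣ Nat.card L) (h2 : ¬ p ^ 2 ∣ Nat.card L) :
    Nat.card (P : Subgroup L) = p := by
  rw [P.card_eq_multiplicity]
  have h3 : 1 ≤ (Nat.card L).factorization p :=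
    (hp.out.pow_dvd_iff_le_factorization Nat.card_pos.ne').1 (by rwa [pow_one])
  have h4 : ¬ 2 ≤ (Nat.card L).factorization p := fun h =>
    h2 ((hp.out.pow_dvd_iff_le_factorization Nat.card_pos.ne').2 h)
  rw [show (Nat.card L).factorization p = 1 by omega, pow_one]

theorem exists_sylow_mem {x : L} (hx : orderOf x = p) : ∃ P : Sylow p L, x ∈ (P : Subgroup L) := by
  have h : IsPGroup p (Subgroup.zpowers x) :=
    IsPGroup.of_card (n := 1) (by rw [Nat.card_zpowers, hx, pow_one])
  obtain ⟨P, hP⟩ := h.exists_le_sylow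
  exact ⟨P, hP (Subgroup.mem_zpowers x)⟩

theorem card_mul_normalizer (P : Sylow p L) :
    Nat.card (Sylow p L) * Nat.card (normalizer ((P : Subgroup L) : Set L)) = Nat.card L := by
  rw [P.card_eq_index_normalizer]
  exact Subgroup.index_mul_card _

/-- The exponent by which an element of the normaliser moves a generator. -/
theorem exists_conj_eq_pow {P : Subgroup L} (hP : Nat.card P = p) {u : L} (hu : u ∈ P) (hu1 : u ≠ 1)
    {s : L} (hs : s ∈ normalizer (P : Set L)) :
    ∃ k : ℕ, s * u * s⁻¹ = u ^ k ∧ ∀ q : ℕ, s ^ q = 1 → (k : ZMod p) ^ q = 1 := by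
  have huo : orderOf u = p := orderOf_eq_prime (by
    have h := pow_card_eq_one' (x := (⟨u, hu⟩ : P))
    rw [hP] at h
    exact congrArg Subtype.val h) hu1
  have hz : Subgroup.zpowers u = P := Subgroup.eq_of_le_of_card_ge (Subgroup.zpowers_le.2 hu)
    (by rw [Nat.card_zpowers, huo, hP])
  have hmem : s * u * s⁻¹ ∈ Subgroup.zpowers u := by
    rw [hz]; exact (Subgroup.mem_normalizer_iff.1 hs u).1 hu
  obtain ⟨k, hk : u ^ k = s * u * s⁻¹⟩ :=
    (Submonoid.mem_powers_iff _ _).1 (mem_powers_iff_mem_zpowers.2 hmem)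
  refine ⟨k, hk.symm, fun q hq => ?_⟩
  have hiter : ∀ i : ℕ, s ^ i * u * (s ^ i)⁻¹ = u ^ k ^ i := by
    intro i
    induction i with
    | zero => simp
    | succ i ih =>
      rw [pow_succ s, show s ^ i * s * u * (s ^ i * s)⁻¹ = s ^ i * (s * u * s⁻¹) * (s ^ i)⁻¹ by group,
        ← hk, ← conj_pow, ih, ← pow_mul, pow_succ]
  have h := hiter q
  rw [hq, one_mul, inv_one, mul_one] at h
  have h2 : u ^ k ^ q = u ^ 1 := by rw [pow_one]; exact h.symm
  rw [pow_eq_pow_iff_modEq, huo, ← ZMod.natCast_eq_natCast_iff] at h2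
  push_cast at h2
  exact h2

/-- An element of prime order prime to `p - 1` normalising a group of order `p` centralises it. -/
theorem commute_of_normalizes {P : Subgroup L} (hP : Nat.card P = p) {u : L} (hu : u ∈ P)
    {s : L} (hs : s ∈ normalizer (P : Set L)) {q : ℕ} (hsq : s ^ q = 1)
    (hq : Nat.Coprime q (p - 1)) : Commute s u := by
  by_cases hu1 : u = 1
  · rw [hu1]; exact Commute.one_right s
  obtain ⟨k, hk, hkq⟩ := exists_conj_eq_pow hP hu hu1 hs
  have h1 := hkq q hsq
  have hk1 : (k : ZMod p) = 1 := by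
    rcases eq_or_ne (k : ZMod p) 0 with h0 | h0
    · rcases Nat.eq_zero_or_pos q with rfl | hq0
      · rw [Nat.coprime_zero_left] at hq
        have h2p : p = 2 := by have := hp.out.two_le; omega
        exfalso
        subst h2p
        have hconj : s * u * s⁻¹ = 1 := by
          rw [hk]
          obtain ⟨c, rfl⟩ := (ZMod.natCast_eq_zero_iff_even (n := k)).1 h0
          have hu2 := pow_card_eq_one' (x := (⟨u, hu⟩ : P))
          rw [hP] at hu2
          rw [← two_mul, pow_mul, show u ^ 2 = 1 from congrArg Subtype.val hu2, one_pow]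
        exact hu1 (conj_eq_one_iff.1 hconj)
      · rw [h0, zero_pow hq0.ne'] at h1
        exact absurd h1 zero_ne_one
    · have h2 := ZMod.pow_card_sub_one_eq_one h0
      have h3 := pow_gcd_eq_one.2 ⟨h1, h2⟩
      rwa [Nat.Coprime.gcd_eq_one hq, pow_one] at h3
  have huo : orderOf u = p := orderOf_eq_prime (by
    have h := pow_card_eq_one' (x := (⟨u, hu⟩ : P))
    rw [hP] at h
    exact congrArg Subtype.val h) hu1
  have h4 : u ^ k = u ^ 1 := by
    rw [pow_eq_pow_iff_modEq, huo, ← ZMod.natCast_eq_natCast_iff, hk1, Nat.cast_one]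
  rw [pow_one] at h4
  rw [h4, mul_inv_eq_iff_eq_mul] at hk
  exact hk

/-- An involution normalising a group of order `p` centralises or inverts it. -/
theorem inverts_of_normalizes {P : Subgroup L} (hP : Nat.card P = p) {u : L} (hu : u ∈ P)
    (hu1 : u ≠ 1) {i : L} (hi : i ∈ normalizer (P : Set L)) (hi2 : i ^ 2 = 1) :
    Commute i u ∨ i * u * i⁻¹ = u⁻¹ := by
  obtain ⟨k, hk, hkq⟩ := exists_conj_eq_pow hP hu hu1 hi
  have huo : orderOf u = p := orderOf_eq_prime (by
    have h := pow_card_eq_one' (x := (⟨u, hu⟩ : P))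
    rw [hP] at h
    exact congrArg Subtype.val h) hu1
  rcases mul_self_eq_one_iff.1 (show (k : ZMod p) * k = 1 by rw [← pow_two]; exact hkq 2 hi2)
    with h | h
  · left
    have h4 : u ^ k = u ^ 1 := by
      rw [pow_eq_pow_iff_modEq, huo, ← ZMod.natCast_eq_natCast_iff, h, Nat.cast_one]
    rw [pow_one] at h4
    rw [h4, mul_inv_eq_iff_eq_mul] at hk
    exact hk
  · right
    have h4 : u ^ (k + 1) = 1 := by
      rw [← orderOf_dvd_iff_pow_eq_one, huo, ← CharP.cast_eq_zero_iff (ZMod p) p]
      push_cast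
      rw [h, neg_add_cancel]
    rw [pow_succ] at h4
    rw [hk, eq_inv_of_mul_eq_one_left h4]

end H12.TwoAn
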